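import Cfsg.Agent.Lib.Fusion.FrakL.Cases
import Cfsg.Agent.Lib.Lie.Suz.Cyclic

/-!
# The Suzuki groups: odd elements of prime order are inverted by involutions
-/

set_option autoImplicit false
set_option linter.unusedSectionVars false

open scoped MatrixGroups Pointwise

namespace CfsgLib.Fusion.FrakL

open CfsgLib.Lie.Suz

variable {F : Type*} [Field F] [Fintype F] {m : ℕ} (hm : 1 ≤ m)
  (hF : Fintype.card F = 2 ^ (2 * m + 1))
include hm hF

local notation "Sz" => Cfsg.Sz F m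

/-- The Sylow subgroup of translations. -/
theorem exists_sylow_U : ∃ P : Sylow 2 Sz, (P : Subgroup Sz) = U hF := by
  haveI : Fact (Nat.Prime 2) := ⟨Nat.prime_two⟩
  exact ⟨(U_isPGroup hF).toSylow (U_index_not_dvd hm hF), rfl⟩

/-- A non-trivial translation fixes only the point at infinity. -/
theorem fix_of_mem_U {x : Sz} (hx : x ∈ U hF) (hx1 : x ≠ 1) (a : Cfsg.suzukiOvoid F m) (ha : x • a = a) :
    a = ⟨_, ovoid_inf⟩ := by
  obtain ⟨s, t, hst⟩ := hx
  obtain ⟨a, hao⟩ := a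
  rcases (ovoid_iff _).1 hao with rfl | ⟨u, v, rfl⟩
  · rfl
  exfalso
  have h := congrArg Subtype.val ha
  change ((x : SL(4, F)) • pt m u v) = pt m u v at h
  rw [hst, T_pt (isSuzField hF)] at h
  obtain ⟨h1, h2⟩ := pt_inj h
  have hs : s = 0 := by linear_combination h1
  subst hs
  rw [th_zero (isSuzField hF), zero_mul, add_zero] at h2
  have ht : t = 0 := by linear_combination h2
  subst ht
  exact hx1 (Subtype.ext (hst.trans T_zero))

theorem fix_inf_of_mem_U {x : Sz} (hx : x ∈ U hF) :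
    x • (⟨_, ovoid_inf⟩ : Cfsg.suzukiOvoid F m) = ⟨_, ovoid_inf⟩ := by
  obtain ⟨s, t, hst⟩ := hx
  apply Subtype.ext
  show (x : SL(4, F)) • Cfsg.suzukiPointInfinity F = _
  rw [hst]
  exact T_inf s t

/-- A nontrivial 2-element fixes exactly one point. -/
theorem exists_fix_unique {t : Sz} (ht : IsPGroup 2 (Subgroup.zpowers t)) (ht1 : t ≠ 1) :
    ∃ a : Cfsg.suzukiOvoid F m, t • a = a ∧ ∀ b, t • b = b → b = a := by
  haveI : Fact (Nat.Prime 2) := ⟨Nat.prime_two⟩
  obtain ⟨P₀, hP₀⟩ := exists_sylow_U hm hF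
  obtain ⟨Q, hQ⟩ := ht.exists_le_sylow
  obtain ⟨g, hg⟩ := MulAction.exists_smul_eq Sz P₀ Q
  have h1 : t ∈ (Q : Subgroup Sz) := hQ (Subgroup.mem_zpowers t)
  rw [← hg, Sylow.coe_subgroup_smul, hP₀] at h1
  obtain ⟨x, hx, hxt⟩ := h1
  have hxt' : t = g * x * g⁻¹ := hxt.symm
  subst hxt'
  refine ⟨g • ⟨_, ovoid_inf⟩, ?_, fun b hb => ?_⟩
  · rw [mul_smul, mul_smul, inv_smul_smul, fix_inf_of_mem_U hm hF hx]
  · rw [mul_smul, mul_smul] at hb
    have h2 : x • g⁻¹ • b = g⁻¹ • b := by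
      conv_rhs => rw [← hb]
      rw [inv_smul_smul]
    have hx1 : x ≠ 1 := fun e => ht1 (by rw [e, mul_one, mul_inv_cancel])
    rw [← fix_of_mem_U hm hF hx hx1 _ h2, smul_inv_smul]

/-- The TI property at the standard Sylow subgroup. -/
theorem ti_base (P₀ : Sylow 2 Sz) (hP₀ : (P₀ : Subgroup Sz) = U hF) (g x : Sz)
    (hx : x ∈ (P₀ : Subgroup Sz)) (hx1 : x ≠ 1) (hgx : g⁻¹ * x * g ∈ (P₀ : Subgroup Sz)) :
    g ∈ Subgroup.normalizer ((P₀ : Subgroup Sz) : Set Sz) := by
  rw [hP₀] at hx hgx ⊢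
  have h1 : x • g • (⟨_, ovoid_inf⟩ : Cfsg.suzukiOvoid F m) = g • ⟨_, ovoid_inf⟩ := by
    have h := fix_inf_of_mem_U hm hF hgx
    rw [mul_smul, mul_smul, inv_smul_eq_iff] at h
    exact h
  have h2 := fix_of_mem_U hm hF hx hx1 _ h1
  obtain ⟨s, t, k, rfl⟩ := (mem_stab_inf hm hF).1
    (show g ∈ MulAction.stabilizer Sz (Cfsg.suzukiPointInfinity F) from congrArg Subtype.val h2)
  refine mul_mem (Subgroup.le_normalizer (TS_mem_U hF s t)) ?_
  have key : ∀ k : Fˣ, ∀ y ∈ (U hF : Subgroup Sz), HS hF k * y * (HS hF k)⁻¹ ∈ (U hF : Subgroup Sz) := by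
    rintro k y ⟨a, b, hy⟩
    rw [show y = TS hF a b from Subtype.ext hy, H_conj_T hF]
    exact TS_mem_U hF _ _
  rw [Subgroup.mem_normalizer_iff]
  refine fun y => ⟨key k y, fun hy => ?_⟩
  have h3 := key k⁻¹ _ hy
  rwa [show (HS hF k⁻¹ : Sz) = (HS hF k)⁻¹ from Subtype.ext (H_inv k),
    show (HS hF k)⁻¹ * (HS hF k * y * (HS hF k)⁻¹) * ((HS hF k : Sz))⁻¹⁻¹ = y by group] at h3

/-- The number of involutions in a Sylow subgroup. -/
theorem card_invol_le (P₀ : Sylow 2 Sz) (hP₀ : (P₀ : Subgroup Sz) = U hF) :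
    Nat.card {x : Sz // x ∈ P₀ ∧ x ^ 2 = 1} ≤ Fintype.card F := by
  rw [← Nat.card_eq_fintype_card]
  refine Nat.card_le_card_of_surjective (fun b : F => (⟨TS hF 0 b, ?_, ?_⟩ : {x : Sz // x ∈ P₀ ∧ x ^ 2 = 1})) ?_
  · show TS hF 0 b ∈ (P₀ : Subgroup Sz)
    rw [hP₀]; exact TS_mem_U hF 0 b
  · apply Subtype.ext
    rw [Subgroup.coe_pow, sq]
    show T m 0 b * T m 0 b = 1
    rw [T_sq (isSuzField hF), th_zero (isSuzField hF), zero_mul, T_zero]
  · rintro ⟨x, hx, hx2⟩
    have hx' : x ∈ (U hF : Subgroup Sz) := hP₀ ▸ hx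
    obtain ⟨a, b, hab⟩ := hx'
    have ha : a = 0 := by
      have h2 := congrArg Subtype.val hx2
      rw [Subgroup.coe_pow, sq, hab, T_sq (isSuzField hF)] at h2
      have h3 := congrArg (fun g : SL(4, F) => g • Cfsg.suzukiPointZero F) h2
      simp only [T_zero_pt (isSuzField hF), Subgroup.coe_one, one_smul] at h3
      rcases mul_eq_zero.1 (pt_inj (h3.trans pt_zero_zero.symm)).2 with h | h
      · exact th_eq_zero (isSuzField hF) h
      · exact h
    subst ha
    exact ⟨b, Subtype.ext (Subtype.ext hab.symm)⟩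

/-- Elements of odd prime order are inverted by involutions. -/
theorem exists_inverting {h : Sz} (hr : (orderOf h).Prime) (hr2 : orderOf h ≠ 2) :
    ∃ t : Sz, t * t = 1 ∧ t * h * t⁻¹ = h⁻¹ := by
  classical
  set r := orderOf h with hrdef
  haveI : Fact r.Prime := ⟨hr⟩
  have hh1 : h ≠ 1 := fun e => hr.ne_one (by rw [hrdef, e, orderOf_one])
  have hW2 : (WS hF : Sz) * WS hF = 1 := Subtype.ext W_sq
  by_cases hfix : ∃ a : Cfsg.suzukiOvoid F m, h • a = a
  · obtain ⟨a, ha⟩ := hfix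
    obtain ⟨c, hc⟩ : ∃ c : Sz, c • (⟨_, ovoid_inf⟩ : Cfsg.suzukiOvoid F m) = a := by
      obtain ⟨a, ha'⟩ := a
      obtain ⟨g, hg⟩ := (orbit_inf hF (m := m)).symm ▸ ha'
      exact ⟨g, Subtype.ext hg⟩
    have hst : c⁻¹ * h * c ∈ MulAction.stabilizer Sz (Cfsg.suzukiPointInfinity F) := by
      rw [MulAction.mem_stabilizer_iff]
      have h' : (c⁻¹ * h * c) • (⟨_, ovoid_inf⟩ : Cfsg.suzukiOvoid F m) = ⟨_, ovoid_inf⟩ := by
        rw [mul_smul, mul_smul, hc, ha, ← hc, inv_smul_smul]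
      exact congrArg Subtype.val h'
    obtain ⟨s, t, k, hk⟩ := (mem_stab_inf hm hF).1 hst
    have hk1 : k ≠ 1 := by
      rintro rfl
      rw [show (HS hF 1 : Sz) = 1 from Subtype.ext H_one, mul_one] at hk
      obtain ⟨j, hj⟩ := U_isPGroup hF ⟨_, TS_mem_U hF s t⟩
      have hj' : (c⁻¹ * h * c⁻¹⁻¹) ^ 2 ^ j = 1 := by
        rw [inv_inv, hk]; simpa using congrArg Subtype.val hj
      rw [conj_pow, inv_inv] at hj'
      have hh : h ^ 2 ^ j = 1 := by
        calc h ^ 2 ^ j = c * (c⁻¹ * h ^ 2 ^ j * c) * c⁻¹ := by group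
          _ = 1 := by rw [hj', mul_one, mul_inv_cancel]
      exact hr2 ((Nat.prime_dvd_prime_iff_eq hr Nat.prime_two).1
        (hr.dvd_of_dvd_pow (orderOf_dvd_of_pow_eq_one hh)))
    obtain ⟨u, v, huv⟩ := exists_second_fix hm hF (a := s) (b := t) hk1
    set b : Cfsg.suzukiOvoid F m := c • ⟨pt m u v, (ovoid_iff _).2 (Or.inr ⟨u, v, rfl⟩)⟩ with hb
    have hhb : h • b = b := by
      rw [← hk, mul_smul, mul_smul, inv_smul_eq_iff] at huv
      exact huv
    have hne : a ≠ b := fun e => by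
      rw [← hc] at e
      exact pt_ne_inf u v (congrArg Subtype.val (MulAction.injective c e)).symm
    obtain ⟨d, hd1, hd2⟩ := exists_conj_pair hF hne
    obtain ⟨l, hl⟩ := stab_pair_le hm hF d hd1 hd2 ha hhb
    refine ⟨d * WS hF * d⁻¹, ?_, ?_⟩
    · rw [conj_mul, hW2, mul_one, mul_inv_cancel]
    · have hWH : (WS hF : Sz) * HS hF l * WS hF = (HS hF l)⁻¹ :=
        Subtype.ext ((WHW l).trans (H_inv l))
      have hWinv : (WS hF : Sz)⁻¹ = WS hF := inv_eq_of_mul_eq_one_right hW2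
      rw [hl]
      simp only [conj_inv, conj_mul, hWinv, hWH]
  push Not at hfix
  -- no fixed point
  have hzp : IsPGroup r (Subgroup.zpowers h) := IsPGroup.of_card (n := 1) (by rw [Nat.card_zpowers, pow_one])
  have hd : r ∣ Fintype.card F ^ 2 + 1 := by
    rcases dvd_or_fix hm hF hzp with hd | ⟨a, ha⟩
    · exact hd
    · exact absurd (ha h (Subgroup.mem_zpowers h)) (hfix a)
  obtain ⟨P, hP⟩ := hzp.exists_le_sylow
  haveI : IsSimpleGroup Sz := simple hm hF
  haveI : IsCyclic P := isCyclic_odd_pgroup hm hF hr2 P.2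
  letI : CommGroup P := IsCyclic.commGroup
  obtain ⟨n, hn, hnc⟩ : ∃ n ∈ Subgroup.normalizer ((P : Subgroup Sz) : Set Sz),
      n ∉ Subgroup.centralizer ((P : Subgroup Sz) : Set Sz) := by
    by_contra hno
    push Not at hno
    have hcomp := MonoidHom.ker_transferSylow_isComplement' P hno
    rcases (MonoidHom.transferSylow P hno).normal_ker.eq_bot_or_eq_top with e | e
    · have hP1 : (P : Subgroup Sz) = ⊤ := by rwa [e, Subgroup.isComplement'_bot_left] at hcomp
      have h2 : ¬ IsPGroup r Sz := fun hp => by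
        obtain ⟨j, hj⟩ := IsPGroup.iff_card.1 hp
        have h3 : 2 ∣ Nat.card Sz := by
          rw [card_Sz hm hF, mul_assoc]
          exact dvd_mul_of_dvd_left (dvd_pow (two_dvd_q hF) two_ne_zero) _
        rw [hj] at h3
        exact hr2 ((Nat.prime_dvd_prime_iff_eq Nat.prime_two hr).1 (Nat.prime_two.dvd_of_dvd_pow h3)).symm
      exact h2 (fun x => by
        obtain ⟨j, hj⟩ := P.2 ⟨x, hP1 ▸ Subgroup.mem_top x⟩
        exact ⟨j, by simpa using congrArg Subtype.val hj⟩)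
    · rw [e, Subgroup.isComplement'_top_left] at hcomp
      exact hh1 (Subgroup.mem_bot.1 (hcomp ▸ hP (Subgroup.mem_zpowers h)))
  have hcx : IsCyclic ↥(Subgroup.centralizer ({h} : Set Sz)) := by
    rcases centralizer_cases hm hF hh1 with hc | hc
    · exact hc
    · exfalso
      obtain ⟨j, hj⟩ := hc ⟨h, Subgroup.mem_centralizer_singleton_iff.2 rfl⟩
      have hj' : h ^ 2 ^ j = 1 := by simpa using congrArg Subtype.val hj
      exact hr2 ((Nat.prime_dvd_prime_iff_eq hr Nat.prime_two).1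
        (hr.dvd_of_dvd_pow (orderOf_dvd_of_pow_eq_one hj')))
  -- `n` moves `h` to another power
  have hPh : ∀ y ∈ (P : Subgroup Sz), y * h = h * y := fun y hy =>
    congrArg Subtype.val (mul_comm (⟨y, hy⟩ : P) ⟨h, hP (Subgroup.mem_zpowers h)⟩)
  obtain ⟨i, hi⟩ : ∃ i : ℕ, n * h * n⁻¹ = h ^ i := by
    have h1 : n * h * n⁻¹ ∈ (P : Subgroup Sz) :=
      (Subgroup.mem_normalizer_iff.1 hn h).1 (hP (Subgroup.mem_zpowers h))
    haveI : Fintype P := Fintype.ofFinite _
    set y₀ : P := ⟨h, hP (Subgroup.mem_zpowers h)⟩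
    have hy₀ : orderOf y₀ = r := Subgroup.orderOf_mk _ _
    have hsub : ((Finset.range r).image fun i => y₀ ^ i) ⊆ Finset.univ.filter fun y : P => y ^ r = 1 := by
      intro y hy
      obtain ⟨i, -, rfl⟩ := Finset.mem_image.1 hy
      rw [Finset.mem_filter, ← pow_mul, mul_comm, pow_mul, orderOf_dvd_iff_pow_eq_one.1 hy₀.dvd, one_pow]
      exact ⟨Finset.mem_univ _, rfl⟩
    have hcard : ((Finset.range r).image fun i => y₀ ^ i).card = r := by
      rw [Finset.card_image_of_injOn, Finset.card_range]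
      rw [Finset.coe_range]
      have := pow_injOn_Iio_orderOf (x := y₀)
      rwa [hy₀] at this
    have heq := Finset.eq_of_subset_of_card_le hsub ((IsCyclic.card_pow_eq_one_le hr.pos).trans hcard.ge)
    have hm' : (⟨n * h * n⁻¹, h1⟩ : P) ∈ Finset.univ.filter fun y : P => y ^ r = 1 := by
      rw [Finset.mem_filter]
      refine ⟨Finset.mem_univ _, Subtype.ext ?_⟩
      show (n * h * n⁻¹) ^ r = 1
      rw [conj_pow, hrdef, pow_orderOf_eq_one, mul_one, mul_inv_cancel]
    rw [← heq] at hm'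
    obtain ⟨i, -, hi⟩ := Finset.mem_image.1 hm'
    exact ⟨i, by simpa [y₀] using (congrArg Subtype.val hi).symm⟩
  have hi1 : h ^ i ≠ h := by
    intro e
    rw [e] at hi
    apply hnc
    rw [Subgroup.mem_centralizer_iff]
    intro y hy
    have hn' : n ∈ Subgroup.centralizer ({h} : Set Sz) := Subgroup.mem_centralizer_singleton_iff.2 (by
      have := congrArg (· * n) hi
      simpa [mul_assoc] using this)
    have hy' : y ∈ Subgroup.centralizer ({h} : Set Sz) := Subgroup.mem_centralizer_singleton_iff.2 (hPh y hy)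
    haveI := hcx
    letI : CommGroup ↥(Subgroup.centralizer ({h} : Set Sz)) := IsCyclic.commGroup
    exact congrArg Subtype.val (mul_comm (⟨y, hy'⟩ : ↥(Subgroup.centralizer ({h} : Set Sz))) ⟨n, hn'⟩)
  -- the conjugates are roots of the minimal polynomial
  set x : SL(4, F) := (h : SL(4, F))
  have hxo : orderOf x = r := Subgroup.orderOf_coe h
  obtain ⟨μ, hμ4, hμm, hμi, ψ, hψ, hroot⟩ := exists_field_of_prime hr hr2 hd hxo
  haveI := Fact.mk hμi
  set cx : ↥(Subgroup.centralizer ({x} : Set SL(4, F))) := ⟨x, Subgroup.mem_centralizer_singleton_iff.2 rfl⟩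
  obtain ⟨α, hα⟩ : ∃ α, α = ψ cx := ⟨_, rfl⟩
  have hαo : orderOf α = r := by
    rw [hα, orderOf_injective ψ hψ, Subgroup.orderOf_mk, hxo]
  have heqv : ∀ a b : ℕ, α ^ a = α ^ b ↔ (a : ZMod r) = b := by
    intro a b
    have hfin : IsOfFinOrder α := orderOf_pos_iff.1 (hαo.symm ▸ hr.pos)
    rw [hfin.pow_eq_pow_iff_modEq, hαo, ZMod.natCast_eq_natCast_iff]
  set f := μ.map (AdjoinRoot.of μ)
  have hf0 : f ≠ 0 := Polynomial.map_ne_zero hμi.ne_zero
  have hαroot : f.IsRoot α := hα ▸ hroot cx (IsConj.refl _)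
  set q := Fintype.card F
  have hfrob : ∀ z : AdjoinRoot μ, f.IsRoot z → f.IsRoot (z ^ q) := by
    intro z hz
    rw [Polynomial.IsRoot.def, Polynomial.eval_map] at hz ⊢
    have h1 : Polynomial.eval₂ (AdjoinRoot.of μ) (z ^ q) μ = (Polynomial.eval₂ (AdjoinRoot.of μ) z μ) ^ q := by
      show Polynomial.aeval (z ^ q) μ = (Polynomial.aeval z μ) ^ q
      rw [← Polynomial.expand_aeval, FiniteField.expand_card, map_pow]
    rw [h1, hz, zero_pow Fintype.card_ne_zero]
  have hqroot : ∀ e : ℕ, f.IsRoot (α ^ q ^ e) := by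
    intro e
    induction e with
    | zero => rw [pow_zero, pow_one]; exact hαroot
    | succ e ih => rw [pow_succ, pow_mul]; exact hfrob _ ih
  have hiroot : f.IsRoot (α ^ i) := by
    have h1 := hroot (cx ^ i) (by
      refine isConj_iff.2 ⟨((n : Sz) : SL(4, F))⁻¹, ?_⟩
      show (n : SL(4, F))⁻¹ * x ^ i * (n : SL(4, F))⁻¹⁻¹ = x
      have h2 := congrArg Subtype.val hi
      simp only [Subgroup.coe_mul, Subgroup.coe_inv, Subgroup.coe_pow] at h2
      rw [← h2, inv_inv]
      group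
      rfl)
    rwa [map_pow, ← hα] at h1
  -- the four Frobenius conjugates are all roots
  set Q : ZMod r := (q : ZMod r) with hQ
  have hQ2 : Q ^ 2 = -1 := by
    have h1 : ((q ^ 2 + 1 : ℕ) : ZMod r) = 0 := (ZMod.natCast_eq_zero_iff _ _).2 hd
    push_cast at h1
    exact eq_neg_of_add_eq_zero_left h1
  have h2ne : (2 : ZMod r) ≠ 0 := by
    intro h2
    exact hr2 ((Nat.prime_dvd_prime_iff_eq hr Nat.prime_two).1
      ((ZMod.natCast_eq_zero_iff 2 r).1 (by exact_mod_cast h2)))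
  have hmem : α ^ i ∈ (Finset.range 4).image fun e => α ^ q ^ e := by
    have hcard : ((Finset.range 4).image fun e => α ^ q ^ e).card = 4 := by
      rw [Finset.card_image_of_injOn, Finset.card_range]
      intro a ha b hb hab
      rw [Finset.mem_coe, Finset.mem_range] at ha hb
      have h1 := (heqv _ _).1 hab
      push_cast at h1
      rw [← hQ] at h1
      have hQ3 : Q ^ 3 = -Q := by rw [pow_succ, hQ2, neg_one_mul]
      interval_cases a <;> interval_cases b <;>
        simp only [pow_zero, pow_one, hQ2, hQ3] at h1 <;>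
        first
          | rfl
          | (exfalso; exact h2ne (by linear_combination h1))
          | (exfalso; exact h2ne (by linear_combination -h1))
          | (exfalso; exact h2ne (by linear_combination (1 + Q) * h1 + hQ2))
          | (exfalso; exact h2ne (by linear_combination -(1 + Q) * h1 + hQ2))
          | (exfalso; exact h2ne (by linear_combination (1 - Q) * h1 + hQ2))
          | (exfalso; exact h2ne (by linear_combination -(1 - Q) * h1 + hQ2))
          | (exfalso; exact h2ne (by linear_combination Q * h1 + hQ2))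
          | (exfalso; exact h2ne (by linear_combination -Q * h1 + hQ2))
          | (exfalso; exact h2ne (by linear_combination Q * h1 + 2 * hQ2))
          | (exfalso; exact h2ne (by linear_combination -Q * h1 + 2 * hQ2))
    have hsub : ((Finset.range 4).image fun e => α ^ q ^ e) ⊆ f.roots.toFinset := by
      intro z hz
      obtain ⟨e, -, rfl⟩ := Finset.mem_image.1 hz
      rw [Multiset.mem_toFinset, Polynomial.mem_roots hf0]
      exact hqroot e
    have heq : ((Finset.range 4).image fun e => α ^ q ^ e) = f.roots.toFinset := by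
      refine Finset.eq_of_subset_of_card_le hsub ?_
      rw [hcard]
      refine (Multiset.toFinset_card_le _).trans ((Polynomial.card_roots' f).trans ?_)
      rw [Polynomial.natDegree_map]
      exact hμ4
    rw [heq, Multiset.mem_toFinset, Polynomial.mem_roots hf0]
    exact hiroot
  obtain ⟨e, he4, hie⟩ := Finset.mem_image.1 hmem
  rw [Finset.mem_range] at he4
  have hie' : (i : ZMod r) = Q ^ e := by
    have h1 := (heqv _ _).1 hie
    push_cast at h1
    exact h1.symm
  have hpown : ∀ j : ℕ, n ^ j * h * (n ^ j)⁻¹ = h ^ i ^ j := by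
    intro j
    induction j with
    | zero => simp
    | succ j ih =>
      rw [pow_succ' n, show n * n ^ j * h * (n * n ^ j)⁻¹ = n * (n ^ j * h * (n ^ j)⁻¹) * n⁻¹ by group, ih,
        ← conj_pow, hi, ← pow_mul, pow_succ']
  obtain ⟨j, hj⟩ : ∃ j : ℕ, ((i : ZMod r)) ^ j = -1 := by
    interval_cases e
    · exfalso
      apply hi1
      have h1 : α ^ i = α ^ 1 := (heqv i 1).2 (by rw [hie', pow_zero, Nat.cast_one])
      rw [pow_one] at h1
      have h2 : cx ^ i = cx := hψ (by rw [map_pow, ← hα]; exact h1)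
      exact Subtype.ext (by simpa using congrArg Subtype.val h2)
    · exact ⟨2, by rw [hie', pow_one, hQ2]⟩
    · exact ⟨1, by rw [pow_one, hie', hQ2]⟩
    · exact ⟨2, by rw [hie', ← pow_mul, show 3 * 2 = 2 + 2 + 2 from rfl, pow_add, pow_add, hQ2]; ring⟩
  set u := n ^ j
  have hu : u * h * u⁻¹ = h⁻¹ := by
    rw [hpown]
    apply eq_inv_of_mul_eq_one_left
    rw [← pow_succ]
    have h1 : ((i ^ j + 1 : ℕ) : ZMod r) = 0 := by push_cast; rw [hj, neg_add_cancel]
    exact orderOf_dvd_iff_pow_eq_one.1 ((ZMod.natCast_eq_zero_iff _ _).1 h1)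
  -- pass to an involution
  have hcompose : ∀ k : ℕ, Odd k → u ^ k * h * (u ^ k)⁻¹ = h⁻¹ := by
    rintro k ⟨l, rfl⟩
    have h2 : ∀ l : ℕ, u ^ (2 * l) * h * (u ^ (2 * l))⁻¹ = h := by
      intro l
      induction l with
      | zero => simp
      | succ l ih =>
        rw [show u ^ (2 * (l + 1)) * h * (u ^ (2 * (l + 1)))⁻¹ =
          u * (u * (u ^ (2 * l) * h * (u ^ (2 * l))⁻¹) * u⁻¹) * u⁻¹ by
            rw [show 2 * (l + 1) = 1 + (1 + 2 * l) by ring, pow_add, pow_add, pow_one]; group,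
          ih, hu, ← conj_inv, hu, inv_inv]
    rw [pow_succ', show u * u ^ (2 * l) * h * (u * u ^ (2 * l))⁻¹ =
      u * (u ^ (2 * l) * h * (u ^ (2 * l))⁻¹) * u⁻¹ by group, h2, hu]
  obtain ⟨a, o, ho, hao⟩ := Nat.exists_eq_two_pow_mul_odd (n := orderOf u) (orderOf_pos u).ne'
  set t := u ^ o with ht
  have htp : t ^ 2 ^ a = 1 := by rw [ht, ← pow_mul, mul_comm, ← hao, pow_orderOf_eq_one]
  have hth : t * h * t⁻¹ = h⁻¹ := hcompose o ho
  refine ⟨t, by_contra fun ht2 => ?_, hth⟩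
  have hp2 : IsPGroup 2 (Subgroup.zpowers (t * t)) := by
    rintro ⟨y, hy⟩
    obtain ⟨z, rfl⟩ := Subgroup.mem_zpowers_iff.1 hy
    refine ⟨a, Subtype.ext ?_⟩
    rw [Subgroup.coe_pow, ← zpow_natCast, ← zpow_mul, mul_comm, zpow_mul, zpow_natCast, Subgroup.coe_one,
      (Commute.refl t).mul_pow, htp, one_mul, one_zpow]
  obtain ⟨b, hb, huniq⟩ := exists_fix_unique hm hF hp2 ht2
  refine hfix b (huniq _ ?_)
  have hc : t * t * h = h * (t * t) := by
    have h1 : t * t * h * (t * t)⁻¹ = h := by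
      rw [show t * t * h * (t * t)⁻¹ = t * (t * h * t⁻¹) * t⁻¹ by group, hth, ← conj_inv, hth, inv_inv]
    have h3 := congrArg (· * (t * t)) h1
    simpa [mul_assoc] using h3
  rw [← mul_smul, hc, mul_smul, hb]

/-- The Suzuki groups for a subgroup of order `q` of exponent 2. -/
theorem suzuki_good {W : Subgroup Sz} (hW : IsPGroup 2 W) (hexp : ∀ w ∈ W, w ^ 2 = 1)
    (hcard : Nat.card W = Fintype.card F) : OrderOrTI 2 W ∧ TwoFactor 2 W := by
  haveI : Fact (Nat.Prime 2) := ⟨Nat.prime_two⟩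
  obtain ⟨P₀, hP₀⟩ := exists_sylow_U hm hF
  have hom := card_expo_of_base P₀ ((card_invol_le hm hF P₀ hP₀).trans hcard.ge)
  refine ⟨Or.inr ⟨ti_of_base P₀ (ti_base hm hF P₀ hP₀), hom⟩, twoFactor_of_expo hW hexp hom fun h hr hr2 => ?_⟩
  obtain ⟨t, ht, hth⟩ := exists_inverting hm hF hr hr2
  refine ⟨t, t * h, 0, by rw [sq, ht], ?_, by rw [pow_zero, pow_one, ← mul_assoc, ht, one_mul]⟩
  rw [sq, ← mul_assoc, show t * h * t * h = t * h * t⁻¹ * h by rw [inv_eq_of_mul_eq_one_right ht], hth,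
    inv_mul_cancel]

end CfsgLib.Fusion.FrakL
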