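import Cfsg.Agent.Lib.Fusion.FrakL.Main
import Cfsg.Agent.Lib.Classical.SL2Sylow

/-!
# The quotient groups occurring in `𝔏_G(Y)`: dihedral and `SL₂`
-/

set_option autoImplicit false
set_option linter.unusedSectionVars false

open scoped Pointwise

namespace CfsgLib.Fusion.FrakL

variable {X : Type*} [Group X] {p : ℕ}

/-- A group generated by two conjugate involutions. -/
theorem twoFactor_of_two_gen {W : Subgroup X} {u g : X} (hu : u ∈ W) (hu2 : u * u = 1)
    (hgen : ∀ S : Subgroup X, u ∈ S → g * u * g⁻¹ ∈ S → S = ⊤) : TwoFactor 2 W := by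
  set v := g * u * g⁻¹ with hv
  set c := u * v
  have hv2 : v * v = 1 := by rw [hv, conj_mul, hu2, mul_one, mul_inv_cancel]
  have hu' : u⁻¹ = u := inv_eq_of_mul_eq_one_right hu2
  have hv' : v⁻¹ = v := inv_eq_of_mul_eq_one_right hv2
  have hcu : ∀ i : ℤ, u * c ^ i = c ^ (-i) * u := by
    have h1 : u * c * u⁻¹ = c⁻¹ := by
      rw [_root_.mul_inv_rev, hu', hv']
      simp only [c, ← mul_assoc, hu2, one_mul]
    intro i
    have h2 := conj_zpow (a := u) (b := c) (i := i)
    rw [h1, inv_zpow, ← zpow_neg] at h2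
    rw [h2, inv_mul_cancel_right]
  let S : Subgroup X :=
    { carrier := {x | ∃ i : ℤ, x = c ^ i ∨ x = u * c ^ i}
      one_mem' := ⟨0, Or.inl (zpow_zero c).symm⟩
      mul_mem' := by
        rintro _ _ ⟨i, rfl | rfl⟩ ⟨j, rfl | rfl⟩
        · exact ⟨i + j, Or.inl (zpow_add c i j).symm⟩
        · exact ⟨-i + j, Or.inr (by
            rw [← mul_assoc, show c ^ i * u = u * c ^ (-i) by rw [hcu, neg_neg], mul_assoc, ← zpow_add])⟩
        · exact ⟨i + j, Or.inr (by rw [mul_assoc, zpow_add])⟩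
        · exact ⟨-i + j, Or.inl (by
            rw [mul_assoc, ← mul_assoc (c ^ i), show c ^ i * u = u * c ^ (-i) by rw [hcu, neg_neg],
              ← mul_assoc, ← mul_assoc, hu2, one_mul, ← zpow_add])⟩
      inv_mem' := by
        rintro _ ⟨i, rfl | rfl⟩
        · exact ⟨-i, Or.inl (zpow_neg c i).symm⟩
        · exact ⟨i, Or.inr (by rw [_root_.mul_inv_rev, hu', ← zpow_neg, hcu])⟩ }
  have hS : S = ⊤ := hgen S ⟨0, Or.inr (by rw [zpow_zero, mul_one])⟩
    ⟨1, Or.inr (by rw [zpow_one, ← mul_assoc, hu2, one_mul])⟩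
  intro h hr hne
  obtain ⟨i, hi⟩ : ∃ i : ℤ, h = c ^ i := by
    obtain ⟨i, hi | hi⟩ : h ∈ S := hS ▸ Subgroup.mem_top h
    · exact ⟨i, hi⟩
    · exfalso
      have h2 : h ^ 2 = 1 := by
        rw [hi, sq]
        nth_rewrite 1 [hcu i]
        rw [mul_assoc, ← mul_assoc u u, hu2, one_mul, ← zpow_add, neg_add_cancel, zpow_zero]
      exact hne ((Nat.prime_dvd_prime_iff_eq hr Nat.prime_two).1 (orderOf_dvd_of_pow_eq_one h2))
  obtain ⟨j, hj⟩ := hr.odd_of_ne_two hne
  have hh : h = c ^ ((2 : ℤ) * (i * (j + 1))) := by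
    have h1 : h ^ (orderOf h + 1) = h := by rw [pow_succ, pow_orderOf_eq_one, one_mul]
    rw [show (2 : ℤ) * (i * (j + 1)) = i * ((2 * j + 1 + 1 : ℕ) : ℤ) by push_cast; ring, zpow_mul,
      zpow_natCast, ← hi, ← hj, h1]
  set m : ℤ := i * (j + 1)
  refine ⟨u, hu, u, hu, c ^ m, 1, 0, ?_⟩
  rw [pow_zero, pow_one, inv_one, one_mul, mul_one, hh, two_mul m, zpow_add, ← zpow_neg,
    mul_assoc (c ^ m) u, hcu, neg_neg, mul_assoc (c ^ m), mul_assoc, hu2, mul_one]

variable [Finite X] [hp : Fact p.Prime]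

/-- Elements of exponent `p` are conjugate into `W`. -/
theorem exists_conj_mem {W : Subgroup X} (hW : IsPGroup p W) (hexp : ∀ w ∈ W, w ^ p = 1)
    (hom : ∀ P : Sylow p X, Nat.card {x : X // x ∈ P ∧ x ^ p = 1} ≤ Nat.card W) {u : X} (hu : u ^ p = 1) :
    ∃ s, ∃ a ∈ W, u = s * a * s⁻¹ := by
  obtain ⟨P, hP⟩ := hW.exists_le_sylow
  obtain ⟨Q, hQ⟩ := (show IsPGroup p (Subgroup.zpowers u) from fun x => ⟨1, by
    obtain ⟨i, hi⟩ := Subgroup.mem_zpowers_iff.1 x.2
    apply Subtype.ext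
    rw [Subgroup.coe_pow, pow_one, ← hi, ← zpow_natCast (u ^ i), ← zpow_mul, mul_comm, zpow_mul,
      zpow_natCast, hu, one_zpow, Subgroup.coe_one]⟩).exists_le_sylow
  obtain ⟨s, hs⟩ := MulAction.exists_smul_eq X P Q
  have huQ : u ∈ (Q : Subgroup X) := hQ (Subgroup.mem_zpowers u)
  rw [← hs, Sylow.coe_subgroup_smul] at huQ
  obtain ⟨b, hb, hbu⟩ := huQ
  have hbu' : u = s * b * s⁻¹ := hbu.symm
  refine ⟨s, b, ?_, hbu'⟩
  let f : W → {x : X // x ∈ P ∧ x ^ p = 1} := fun d => ⟨d, hP d.2, hexp d d.2⟩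
  have hf : Function.Injective f := fun d e h => Subtype.ext (congrArg (fun t => t.1) h)
  have hbij := Function.Injective.bijective_of_nat_card_le hf (hom P)
  obtain ⟨d, hd⟩ := hbij.2 ⟨b, hb, by
    rw [hbu', conj_pow] at hu
    simpa [mul_inv_eq_one] using hu⟩
  exact (congrArg (fun t => t.1) hd : (d : X) = b) ▸ d.2

/-- From elements of exponent `p` to conjugates in `W`. -/
theorem twoFactor_of_expo {W : Subgroup X} (hW : IsPGroup p W) (hexp : ∀ w ∈ W, w ^ p = 1)
    (hom : ∀ P : Sylow p X, Nat.card {x : X // x ∈ P ∧ x ^ p = 1} ≤ Nat.card W)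
    (h : ∀ h : X, (orderOf h).Prime → orderOf h ≠ p →
      ∃ (u v : X) (k : ℕ), u ^ p = 1 ∧ v ^ p = 1 ∧ h = (u * v) ^ p ^ k) : TwoFactor p W := by
  intro g hg hgp
  obtain ⟨u, v, k, hu, hv, rfl⟩ := h g hg hgp
  obtain ⟨s, a, ha, rfl⟩ := exists_conj_mem hW hexp hom hu
  obtain ⟨t, b, hb, rfl⟩ := exists_conj_mem hW hexp hom hv
  exact ⟨a, ha, b, hb, s, t, k, rfl⟩

/-- Trivial intersection of the Sylow subgroups from one of them. -/
theorem ti_of_base (P₀ : Sylow p X)
    (h : ∀ g x : X, x ∈ (P₀ : Subgroup X) → x ≠ 1 → g⁻¹ * x * g ∈ (P₀ : Subgroup X) →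
      g ∈ Subgroup.normalizer ((P₀ : Subgroup X) : Set X))
    (P Q : Sylow p X) (x : X) (hP : x ∈ P) (hQ : x ∈ Q) (hx : x ≠ 1) : P = Q := by
  obtain ⟨a, rfl⟩ := MulAction.exists_smul_eq X P₀ P
  obtain ⟨b, rfl⟩ := MulAction.exists_smul_eq X P₀ Q
  have hP' : x ∈ ((a • P₀ : Sylow p X) : Subgroup X) := hP
  have hQ' : x ∈ ((b • P₀ : Sylow p X) : Subgroup X) := hQ
  rw [Sylow.coe_subgroup_smul] at hP' hQ'
  obtain ⟨x₁, h1, e1⟩ := hP'
  obtain ⟨x₂, h2, e2⟩ := hQ'
  have e1' : a * x₁ * a⁻¹ = x := e1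
  have e2' : b * x₂ * b⁻¹ = x := e2
  have hn := h (a⁻¹ * b) x₁ h1 (fun e => hx (by rw [← e1', e, mul_one, mul_inv_cancel])) (by
    rw [show (a⁻¹ * b)⁻¹ * x₁ * (a⁻¹ * b) = b⁻¹ * (a * x₁ * a⁻¹) * b by group, e1', ← e2',
      show b⁻¹ * (b * x₂ * b⁻¹) * b = x₂ by group]
    exact h2)
  have hfix : (a⁻¹ * b) • P₀ = P₀ := Sylow.smul_eq_iff_mem_normalizer.2 hn
  rw [mul_smul, inv_smul_eq_iff] at hfix
  exact hfix.symm

/-- The elements of exponent `p` of the Sylow subgroups, from one of them. -/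
theorem card_expo_of_base (P₀ : Sylow p X) {n : ℕ}
    (h : Nat.card {x : X // x ∈ P₀ ∧ x ^ p = 1} ≤ n) (P : Sylow p X) :
    Nat.card {x : X // x ∈ P ∧ x ^ p = 1} ≤ n := by
  obtain ⟨g, rfl⟩ := MulAction.exists_smul_eq X P₀ P
  refine le_trans (le_of_eq (Nat.card_congr ?_).symm) h
  refine (MulAut.conj g).toEquiv.subtypeEquiv fun x => ?_
  show (x ∈ (P₀ : Subgroup X) ∧ x ^ p = 1) ↔
    (MulAut.conj g x ∈ ((g • P₀ : Sylow p X) : Subgroup X)) ∧ (MulAut.conj g x) ^ p = 1
  rw [Sylow.coe_subgroup_smul, ← MulAut.smul_def (MulAut.conj g) x, Subgroup.smul_mem_pointwise_smul_iff,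
    MulAut.smul_def]
  refine and_congr Iff.rfl ?_
  rw [← map_pow, (MulAut.conj g).map_eq_one_iff]

section SLTwo

variable {F : Type*} [Field F] [Fintype F] [CharP F p]

local notation "SL" => Matrix.SpecialLinearGroup (Fin 2) F

/-- The upper unitriangular subgroup. -/
def upper : Subgroup SL where
  carrier := {x | x.1 1 0 = 0 ∧ x.1 0 0 = 1 ∧ x.1 1 1 = 1}
  one_mem' := by simp
  mul_mem' := by
    rintro x y ⟨a, b, c⟩ ⟨a', b', c'⟩
    simp [Matrix.mul_apply, Fin.sum_univ_two, a, b, c, a', b', c']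
  inv_mem' := by
    rintro x ⟨a, b, c⟩
    simp [Matrix.adjugate_fin_two, a, b, c]

/-- An upper unitriangular matrix. -/
def xU (a : F) : SL := ⟨!![1, a; 0, 1], by simp [Matrix.det_fin_two]⟩

/-- A lower unitriangular matrix. -/
def yL (a : F) : SL := ⟨!![1, 0; a, 1], by simp [Matrix.det_fin_two]⟩

theorem xU_mul (a b : F) : xU a * xU b = xU (a + b) := by
  apply Subtype.ext
  rw [Matrix.SpecialLinearGroup.coe_mul]
  ext i j
  fin_cases i <;> fin_cases j <;> simp [xU, Matrix.mul_apply, Fin.sum_univ_two, add_comm]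

theorem yL_mul (a b : F) : yL a * yL b = yL (a + b) := by
  apply Subtype.ext
  rw [Matrix.SpecialLinearGroup.coe_mul]
  ext i j
  fin_cases i <;> fin_cases j <;> simp [yL, Matrix.mul_apply, Fin.sum_univ_two, add_comm]

theorem xU_zero : xU (0 : F) = 1 := by
  apply Subtype.ext
  ext i j
  fin_cases i <;> fin_cases j <;> simp [xU]

theorem yL_zero : yL (0 : F) = 1 := by
  apply Subtype.ext
  ext i j
  fin_cases i <;> fin_cases j <;> simp [yL]

omit hp [CharP F p] in
theorem xU_npow (a : F) (n : ℕ) : xU a ^ n = xU ((n : F) * a) := by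
  induction n with
  | zero => rw [pow_zero, Nat.cast_zero, zero_mul, xU_zero]
  | succ n ih => rw [pow_succ, ih, xU_mul, Nat.cast_succ, add_mul, one_mul]

omit hp [CharP F p] in
theorem yL_npow (a : F) (n : ℕ) : yL a ^ n = yL ((n : F) * a) := by
  induction n with
  | zero => rw [pow_zero, Nat.cast_zero, zero_mul, yL_zero]
  | succ n ih => rw [pow_succ, ih, yL_mul, Nat.cast_succ, add_mul, one_mul]

omit hp in
theorem xU_pow_char (a : F) : xU a ^ p = 1 := by rw [xU_npow, CharP.cast_eq_zero, zero_mul, xU_zero]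

omit hp in
theorem yL_pow_char (a : F) : yL a ^ p = 1 := by rw [yL_npow, CharP.cast_eq_zero, zero_mul, yL_zero]

theorem card_upper : Nat.card (upper : Subgroup SL) = Fintype.card F := by
  rw [← Nat.card_eq_fintype_card]
  refine Nat.card_congr (Equiv.symm (Equiv.ofBijective (fun a => ⟨xU a, by show _ ∧ _ ∧ _; simp [xU]⟩) ⟨?_, ?_⟩))
  · intro a b h
    have := congrArg (fun t : (upper : Subgroup SL) => t.1.1 0 1) h
    simpa [xU] using this
  · rintro ⟨x, a, b, c⟩
    refine ⟨x.1 0 1, Subtype.ext (Subtype.ext ?_)⟩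
    ext i j
    fin_cases i <;> fin_cases j <;> simp [xU, a, b, c]

/-- A Weyl element. -/
def wE : SL := ⟨!![0, 1; -1, 0], by simp [Matrix.det_fin_two]⟩

omit hp [CharP F p] in
theorem sl_decomp (g : SL) (hc : g.1 1 0 ≠ 0) :
    g = xU ((g.1 0 0 - 1) / g.1 1 0) * yL (g.1 1 0) * xU ((g.1 1 1 - 1) / g.1 1 0) := by
  have hd := g.2
  rw [Matrix.det_fin_two] at hd
  apply Subtype.ext
  rw [Matrix.SpecialLinearGroup.coe_mul, Matrix.SpecialLinearGroup.coe_mul]
  ext i j
  fin_cases i <;> fin_cases j <;> simp [xU, yL, Matrix.mul_apply, Fin.sum_univ_two] <;> field_simp <;>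
    first
      | done
      | linear_combination -hd
      | linear_combination hd
      | ring

omit hp [CharP F p] in
theorem exists_lower_ne (h : SL) (hsc : ¬ (h.1 0 1 = 0 ∧ h.1 1 0 = 0 ∧ h.1 0 0 = h.1 1 1)) :
    ∃ t : SL, (t * h * t⁻¹).1 1 0 ≠ 0 := by
  by_cases hc : h.1 1 0 = 0
  · by_cases hb : h.1 0 1 = 0
    · refine ⟨yL 1, ?_⟩
      rw [Matrix.SpecialLinearGroup.coe_mul, Matrix.SpecialLinearGroup.coe_mul,
        Matrix.SpecialLinearGroup.coe_inv]
      simp [yL, Matrix.mul_apply, Matrix.vecMul, dotProduct, Fin.sum_univ_two, Matrix.adjugate_fin_two, hb, hc]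
      intro e
      exact hsc ⟨hb, hc, by linear_combination e⟩
    · refine ⟨wE, ?_⟩
      rw [Matrix.SpecialLinearGroup.coe_mul, Matrix.SpecialLinearGroup.coe_mul,
        Matrix.SpecialLinearGroup.coe_inv]
      simp [wE, Matrix.mul_apply, Matrix.vecMul, dotProduct, Fin.sum_univ_two, Matrix.adjugate_fin_two, hb]
  · exact ⟨1, by simpa using hc⟩

/-- A Sylow subgroup of `SL₂` in the natural characteristic. -/
theorem exists_sylow_upper : ∃ P : Sylow p SL, (P : Subgroup SL) = upper := by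
  obtain ⟨k, -, hk⟩ := FiniteField.card F p
  refine ⟨Sylow.ofCard upper ?_, rfl⟩
  rw [card_upper, CfsgLib.Classical.card_sl2, hk, CfsgLib.Classical.factorization_of_coprime]
  intro h
  have hd : p ∣ p ^ (k : ℕ) := dvd_pow_self p k.ne_zero
  rcases hp.out.dvd_mul.1 h with h1 | h1
  · have h3 : 1 ≤ p ^ (k : ℕ) := Nat.one_le_pow _ _ hp.out.pos
    have h4 := Nat.dvd_sub hd h1
    rw [show p ^ (k : ℕ) - (p ^ (k : ℕ) - 1) = 1 by omega] at h4
    exact hp.out.ne_one (Nat.dvd_one.1 h4)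
  · exact hp.out.ne_one (Nat.dvd_one.1 ((Nat.dvd_add_right hd).1 h1))

/-- `SL₂(q)` for a subgroup of order `q` of exponent `p`. -/
theorem sl_two_good {W : Subgroup SL} (hW : IsPGroup p W) (hexp : ∀ w ∈ W, w ^ p = 1)
    (hcard : Nat.card W = Fintype.card F) : OrderOrTI p W ∧ TwoFactor p W := by
  obtain ⟨P₀, hP₀⟩ := exists_sylow_upper (p := p) (F := F)
  have hom : ∀ P : Sylow p SL, Nat.card {x : SL // x ∈ P ∧ x ^ p = 1} ≤ Nat.card W :=
    card_expo_of_base P₀ (by
      rw [hcard, ← card_upper (F := F)]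
      refine Nat.card_le_card_of_injective (fun x => (⟨x.1, hP₀ ▸ x.2.1⟩ : (upper : Subgroup SL))) ?_
      intro a b h
      exact Subtype.ext (congrArg (fun t : (upper : Subgroup SL) => (t : SL)) h))
  refine ⟨Or.inr ⟨ti_of_base P₀ ?_, hom⟩, twoFactor_of_expo hW hexp hom ?_⟩
  · intro g x hx hx1 hgx
    rw [hP₀] at hx hgx ⊢
    obtain ⟨xa, xb, xc⟩ := hx
    have hg0 : g.1 1 0 = 0 := by
      set y := g⁻¹ * x * g with hy
      obtain ⟨ya, yb, yc⟩ := hgx
      have e : x * g = g * y := by rw [hy]; group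
      have e0 := congrArg (fun t : SL => t.1 0 0) e
      simp [Matrix.mul_apply, Fin.sum_univ_two, xa, xb, xc, ya, yb, yc] at e0
      have hne : x.1 0 1 ≠ 0 := fun h0 => hx1 (Subtype.ext (by
        ext i j
        fin_cases i <;> fin_cases j <;> simp [xa, xb, xc, h0]))
      rcases e0 with e0 | e0
      · exact absurd e0 hne
      · exact e0
    have key : ∀ g : SL, g.1 1 0 = 0 → ∀ y ∈ (upper : Subgroup SL), g * y * g⁻¹ ∈ (upper : Subgroup SL) := by
      intro g hg0 y hy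
      obtain ⟨ya, yb, yc⟩ := hy
      have hd := g.2
      rw [Matrix.det_fin_two, hg0] at hd
      refine ⟨?_, ?_, ?_⟩ <;>
        simp [Matrix.mul_apply, Fin.sum_univ_two, Matrix.adjugate_fin_two, hg0, ya, yb, yc] <;>
        linear_combination hd
    rw [Subgroup.mem_normalizer_iff]
    intro y
    refine ⟨key g hg0 y, fun hy => ?_⟩
    have h2 := key g⁻¹ (by simp [Matrix.adjugate_fin_two, hg0]) _ hy
    rwa [show g⁻¹ * (g * y * g⁻¹) * g⁻¹⁻¹ = y by group] at h2
  · intro h hr hne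
    by_cases hsc : h.1 0 1 = 0 ∧ h.1 1 0 = 0 ∧ h.1 0 0 = h.1 1 1
    · obtain ⟨a1, a2, a3⟩ := hsc
      have hd := h.2
      rw [Matrix.det_fin_two, a1, a2, a3] at hd
      have hs : h.1 1 1 = -1 := by
        rcases mul_eq_zero.1 (show (h.1 1 1 - 1) * (h.1 1 1 + 1) = 0 by linear_combination hd) with e | e
        · exfalso
          refine hr.ne_one (orderOf_eq_one_iff.2 (Subtype.ext ?_))
          ext i j
          fin_cases i <;> fin_cases j <;> simp [a1, a2, a3, sub_eq_zero.1 e]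
        · exact eq_neg_of_add_eq_zero_left e
      refine ⟨xU 1, yL (-4), 1, xU_pow_char 1, yL_pow_char _, Subtype.ext ?_⟩
      rw [pow_one, Matrix.SpecialLinearGroup.coe_pow, Matrix.SpecialLinearGroup.coe_mul]
      set N : Matrix (Fin 2) (Fin 2) F := !![2, -1; 4, -2] with hN
      have hg : (xU (1 : F)).1 * (yL (-4 : F)).1 = -(1 + N) := by
        ext i j
        fin_cases i <;> fin_cases j <;> simp [xU, yL, hN] <;> ring
      have hNN : N * N = 0 := by
        ext i j
        fin_cases i <;> fin_cases j <;> simp [hN] <;> ring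
      have hNp : ∀ n : ℕ, (1 + N) ^ n = 1 + (n : F) • N := by
        intro n
        induction n with
        | zero => simp
        | succ n ih =>
          rw [pow_succ, ih, Nat.cast_succ, add_smul, one_smul, mul_add, mul_one, add_mul, one_mul,
            Matrix.smul_mul, hNN, smul_zero, add_zero, add_assoc]
      rw [hg, neg_pow, hNp, CharP.cast_eq_zero, zero_smul, add_zero, mul_one]
      have hp2 : p ≠ 2 := by
        intro h2
        refine hr.ne_one (orderOf_eq_one_iff.2 (Subtype.ext ?_))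
        have h2' : (2 : F) = 0 := by
          have := CharP.cast_eq_zero F p
          rwa [h2, Nat.cast_ofNat] at this
        have h11 : (-1 : F) = 1 := by linear_combination -h2'
        ext i j
        fin_cases i <;> fin_cases j <;> simp [a1, a2, a3, hs, h11]
      rw [(hp.out.odd_of_ne_two hp2).neg_one_pow]
      ext i j
      fin_cases i <;> fin_cases j <;> simp [a1, a2, a3, hs]
    · -- conjugate to a matrix with a nonzero lower left entry
      obtain ⟨t, ht⟩ := exists_lower_ne h hsc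
      set g := t * h * t⁻¹ with hg
      set c := g.1 1 0
      set α := (g.1 0 0 - 1) / c
      set β := (g.1 1 1 - 1) / c
      have e : g = xU α * yL c * xU β := sl_decomp g ht
      refine ⟨t⁻¹ * xU (-β) * xU (α + β) * (t⁻¹ * xU (-β))⁻¹, t⁻¹ * xU (-β) * yL c * (t⁻¹ * xU (-β))⁻¹,
        0, ?_, ?_, ?_⟩
      · rw [conj_pow, xU_pow_char, mul_one, mul_inv_cancel]
      · rw [conj_pow, yL_pow_char, mul_one, mul_inv_cancel]
      · rw [pow_zero, pow_one, conj_mul]
        have e2 : xU (-β) * (xU (α + β) * yL c) * (xU (-β))⁻¹ = g := by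
          rw [← mul_assoc, xU_mul, show -β + (α + β) = α by ring, e]
          congr 1
          rw [inv_eq_iff_mul_eq_one, xU_mul, neg_add_cancel, xU_zero]
        calc h = t⁻¹ * g * t := by rw [hg]; group
          _ = _ := by rw [← e2]; group

end SLTwo

end CfsgLib.Fusion.FrakL
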