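import Mathlib

/-!
# A group generated by two conjugates of an abelian subgroup, acting on its `p`-core

Setting of the family `𝔏_G(Y)`: `Y` is abelian of exponent `p`, `O` is the `p`-core of `L`, generated by the
`L`-conjugates of `Y ⊓ O`, and `N_L(Y)` is the only maximal subgroup over `Y`.
-/

set_option autoImplicit false
set_option linter.unusedSectionVars false

open scoped Pointwise

namespace CfsgLib.Fusion.FrakL

variable {G : Type*} [Group G] {p : ℕ} [hp : Fact p.Prime]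

/-- The conjugate `x H x⁻¹`. -/
def cj (x : G) (H : Subgroup G) : Subgroup G := H.map (MulAut.conj x).toMonoidHom

theorem mem_cj {x a : G} {H : Subgroup G} : a ∈ cj x H ↔ x⁻¹ * a * x ∈ H := by
  constructor
  · rintro ⟨b, hb, rfl⟩
    simpa [mul_assoc] using hb
  · intro h
    exact ⟨_, h, by simp [mul_assoc]⟩

theorem conj_mem_cj {x a : G} {H : Subgroup G} (h : a ∈ H) : x * a * x⁻¹ ∈ cj x H := ⟨a, h, rfl⟩

theorem cj_one (H : Subgroup G) : cj 1 H = H := by ext; simp [mem_cj]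

theorem cj_mul (x y : G) (H : Subgroup G) : cj (x * y) H = cj x (cj y H) := by
  ext; simp [mem_cj, mul_assoc]

theorem cj_mono {x : G} {H K : Subgroup G} (h : H ≤ K) : cj x H ≤ cj x K := Subgroup.map_mono h

theorem cj_sup (x : G) (H K : Subgroup G) : cj x (H ⊔ K) = cj x H ⊔ cj x K := Subgroup.map_sup ..

theorem cj_normalizer_mem {x a : G} {H : Subgroup G} (ha : a ∈ Subgroup.normalizer (H : Set G)) :
    x * a * x⁻¹ ∈ Subgroup.normalizer (cj x H : Set G) := by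
  rw [Subgroup.mem_normalizer_iff]
  intro b
  rw [mem_cj, mem_cj, show x⁻¹ * (x * a * x⁻¹ * b * (x * a * x⁻¹)⁻¹) * x =
    a * (x⁻¹ * b * x) * a⁻¹ by group]
  exact Subgroup.mem_normalizer_iff.1 ha _

/-- The hypotheses. -/
structure Data (p : ℕ) (Y L O : Subgroup G) : Prop where
  yl : Y ≤ L
  comm : ∀ a ∈ Y, ∀ b ∈ Y, a * b = b * a
  expo : ∀ a ∈ Y, a ^ p = 1
  ol : O ≤ L
  op : IsPGroup p O
  onor : L ≤ Subgroup.normalizer (O : Set G)
  oy : O ≤ Subgroup.normalizer (Y : Set G)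
  ogen : ∀ B : Subgroup G, Y ⊓ O ≤ B → L ≤ Subgroup.normalizer (B : Set G) → O ≤ B
  omax : ∀ K : Subgroup G, K ≤ L → IsPGroup p K → L ≤ Subgroup.normalizer (K : Set G) → K ≤ O
  gen : ∀ X : Subgroup G, X ≤ L → Y ≤ X → L ≤ Subgroup.normalizer (X : Set G) → L ≤ X
  ny : ¬ L ≤ Subgroup.normalizer (Y : Set G)
  max : ∀ X : Subgroup G, Y ≤ X → X < L → X ≤ Subgroup.normalizer (Y : Set G)

/-- `x` centralises `o` modulo `Z = Y ⊓ C(L)`. -/
def Fx (Y L : Subgroup G) (x o : G) : Prop := x * o * x⁻¹ * o⁻¹ ∈ Y ⊓ Subgroup.centralizer (L : Set G)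

theorem conj_of_fx {Y L : Subgroup G} {x o : G} (h : Fx Y L x o) :
    ∃ z ∈ Y ⊓ Subgroup.centralizer (L : Set G), x * o * x⁻¹ = z * o :=
  ⟨_, h, by group⟩

namespace Data

variable {Y L O : Subgroup G} (D : Data p Y L O)
include D

local notation "Z" => Y ⊓ Subgroup.centralizer (L : Set G)

omit D in
theorem z_comm {z x : G} (hz : z ∈ Z) (hx : x ∈ L) : x * z = z * x :=
  (Subgroup.mem_centralizer_iff.1 hz.2 x hx)

omit D in
theorem z_conj {z x : G} (hz : z ∈ Z) (hx : x ∈ L) : x * z * x⁻¹ = z := by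
  rw [z_comm hz hx, mul_inv_cancel_right]

theorem z_le_o : (Z : Subgroup G) ≤ O := by
  refine D.omax _ (inf_le_left.trans D.yl) (fun z => ⟨1, ?_⟩) fun x hx => ?_
  · rw [pow_one]
    exact Subtype.ext (by simpa using D.expo z z.2.1)
  · rw [Subgroup.mem_normalizer_iff]
    intro z
    refine ⟨fun hz => by rw [z_conj hz hx]; exact hz, fun hz => ?_⟩
    have h := z_conj hz (inv_mem hx)
    rw [inv_inv, show x⁻¹ * (x * z * x⁻¹) * x = z by group] at h
    rw [h]; exact hz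

omit D in
theorem z_mem_cj {z x : G} (hz : z ∈ Z) (hx : x ∈ L) : z ∈ cj x Y := by
  have h := z_conj hz (inv_mem hx)
  rw [inv_inv] at h
  rw [mem_cj, h]
  exact hz.1

theorem cj_le {x : G} (hx : x ∈ L) : cj x Y ≤ L := by
  rintro _ ⟨a, ha, rfl⟩
  exact mul_mem (mul_mem hx (D.yl ha)) (inv_mem hx)

theorem o_conj {x o : G} (hx : x ∈ L) (ho : o ∈ O) : x * o * x⁻¹ ∈ O :=
  (Subgroup.mem_normalizer_iff.1 (D.onor hx) o).1 ho

theorem o_conj' {x o : G} (hx : x ∈ L) (ho : o ∈ O) : x⁻¹ * o * x ∈ O := by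
  simpa using D.o_conj (inv_mem hx) ho

theorem o_le_normalizer_cj {x : G} (hx : x ∈ L) : O ≤ Subgroup.normalizer (cj x Y : Set G) := by
  intro o ho
  have h := cj_normalizer_mem (x := x) (D.oy (D.o_conj' hx ho))
  rwa [show x * (x⁻¹ * o * x) * x⁻¹ = o by group] at h

/-- Commutators of a conjugate of `Y` with `O`. -/
theorem comm_mem {x u o : G} (hx : x ∈ L) (hu : u ∈ cj x Y) (ho : o ∈ O) :
    u * o * u⁻¹ * o⁻¹ ∈ cj x Y ∧ u * o * u⁻¹ * o⁻¹ ∈ O := by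
  refine ⟨?_, mul_mem (D.o_conj (D.cj_le hx hu) ho) (inv_mem ho)⟩
  rw [mul_assoc, mul_assoc u]
  refine mul_mem hu ?_
  rw [← mul_assoc]
  exact (Subgroup.mem_normalizer_iff.1 (D.o_le_normalizer_cj hx ho) _).1 (inv_mem hu)

/-- Two conjugates generate, or the first normalises the second. -/
theorem gen_or {x w : G} (hx : x ∈ L) (hw : w ∈ L) :
    cj w Y ⊔ cj x Y = L ∨ cj x Y ≤ Subgroup.normalizer (cj w Y : Set G) := by
  rcases (sup_le (D.cj_le hw) (D.cj_le hx)).eq_or_lt with h | h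
  · exact Or.inl h
  right
  set v := w⁻¹ * x
  have hv : v ∈ L := mul_mem (inv_mem hw) hx
  have hle : Y ⊔ cj v Y < L := by
    refine lt_of_le_of_ne (sup_le D.yl (D.cj_le hv)) fun e => h.ne ?_
    have e' := congrArg (cj w) e
    rw [cj_sup, ← cj_mul, mul_inv_cancel_left] at e'
    rw [e']
    ext a
    rw [mem_cj]
    exact ⟨fun ha => by simpa [mul_assoc] using mul_mem (mul_mem hw ha) (inv_mem hw),
      fun ha => mul_mem (mul_mem (inv_mem hw) ha) hw⟩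
  intro a ha
  have h2 : cj v Y ≤ Subgroup.normalizer (Y : Set G) := le_sup_right.trans (D.max _ le_sup_left hle)
  have h3 := cj_normalizer_mem (x := w) (h2 (show w⁻¹ * a * w ∈ cj v Y by
    rw [mem_cj]; simpa [v, mul_assoc] using mem_cj.1 ha))
  rwa [show w * (w⁻¹ * a * w) * w⁻¹ = a by group] at h3

theorem inter_gen {x w a : G} (hx : x ∈ L) (h : cj w Y ⊔ cj x Y = L) (ha : a ∈ cj x Y)
    (ha' : a ∈ cj w Y) : a ∈ Z := by
  have hcj : ∀ {y : G}, a ∈ cj y Y → cj y Y ≤ Subgroup.centralizer {a} := fun {y} hay b hb => by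
    rw [Subgroup.mem_centralizer_singleton_iff]
    have := D.comm _ (mem_cj.1 hb) _ (mem_cj.1 hay)
    have h2 := congrArg (fun t => y * t * y⁻¹) this
    simpa [mul_assoc] using h2
  have hc : a ∈ Subgroup.centralizer (L : Set G) := by
    rw [Subgroup.mem_centralizer_iff]
    intro b hb
    exact Subgroup.mem_centralizer_singleton_iff.1 ((h ▸ sup_le (hcj ha') (hcj ha) : L ≤ _) hb)
  refine ⟨?_, hc⟩
  have h1 := mem_cj.1 ha
  rwa [mul_assoc, ← Subgroup.mem_centralizer_iff.1 hc x hx, inv_mul_cancel_left] at h1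

theorem exists_gen : ∃ g ∈ L, Y ⊔ cj g Y = L := by
  by_contra hno
  push Not at hno
  set X : Subgroup G := Subgroup.closure {a | ∃ x ∈ L, ∃ y ∈ Y, x * y * x⁻¹ = a}
  have hXL : X ≤ L := (Subgroup.closure_le _).2 fun _ ⟨x, hx, y, hy, e⟩ =>
    e ▸ D.cj_le hx (conj_mem_cj hy)
  have hXN : X ≤ Subgroup.normalizer (Y : Set G) := (Subgroup.closure_le _).2 fun _ ⟨x, hx, y, hy, e⟩ => by
    rcases D.gen_or hx (one_mem L) with h | h
    · rw [cj_one] at h; exact absurd h (hno x hx)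
    · rw [cj_one] at h; exact e ▸ h (conj_mem_cj hy)
  have hle : ∀ x ∈ L, ∀ a ∈ X, x * a * x⁻¹ ∈ X := by
    intro x hx a ha
    induction ha using Subgroup.closure_induction with
    | mem a ha =>
      obtain ⟨x', hx', y, hy, rfl⟩ := ha
      exact Subgroup.subset_closure ⟨x * x', mul_mem hx hx', y, hy, by group⟩
    | one => rw [mul_one, mul_inv_cancel]; exact one_mem _
    | mul a b _ _ iha ihb => rw [← conj_mul]; exact mul_mem iha ihb
    | inv a _ iha => rw [← conj_inv]; exact inv_mem iha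
  refine D.ny ((D.gen X hXL (fun y hy => Subgroup.subset_closure ⟨1, one_mem L, y, hy, by group⟩)
    fun x hx => Subgroup.mem_normalizer_iff.2 fun a => ⟨hle x hx a, fun ha => ?_⟩).trans hXN)
  simpa [mul_assoc] using hle x⁻¹ (inv_mem hx) _ ha

/-- An element of `Y ⊓ O` fixed by `L` modulo `Z` lies in `Z`. -/
theorem fixed_mem {x a : G} (hx : x ∈ L) (ha : a ∈ cj x Y) (hfix : ∀ l ∈ L, Fx Y L l a) : a ∈ Z := by
  obtain ⟨g, hg, hgen⟩ := D.exists_gen
  have hgen' : cj (x * g) Y ⊔ cj x Y = L := by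
    rw [cj_mul, ← cj_sup, sup_comm, hgen]
    ext b
    rw [mem_cj]
    exact ⟨fun hb => by simpa [mul_assoc] using mul_mem (mul_mem hx hb) (inv_mem hx),
      fun hb => mul_mem (mul_mem (inv_mem hx) hb) hx⟩
  obtain ⟨z, hz, he⟩ := conj_of_fx (hfix _ (mul_mem (mul_mem hx hg) (inv_mem hx)))
  have h1 : z * a ∈ cj (x * g) Y := by
    rw [← he, mem_cj]
    simpa [mul_assoc] using mem_cj.1 ha
  refine D.inter_gen hx hgen' ha ?_
  have := mul_mem (inv_mem (z_mem_cj hz (mul_mem hx hg))) h1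
  rwa [inv_mul_cancel_left] at this

/-- `O` is the product of two opposite conjugates of `Y ⊓ O`. -/
theorem decomp {g : G} (hg : g ∈ L) (hgen : Y ⊔ cj g Y = L) {o : G} (ho : o ∈ O) :
    ∃ a ∈ Y ⊓ O, ∃ b ∈ cj g Y ⊓ O, o = a * b := by
  set A := Y ⊓ O
  set A' := cj g Y ⊓ O
  have hA : A' ≤ Subgroup.normalizer (A : Set G) := fun b hb => by
    rw [Subgroup.mem_normalizer_iff]
    intro a
    exact ⟨fun h => ⟨(Subgroup.mem_normalizer_iff.1 (D.oy hb.2) a).1 h.1,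
        (Subgroup.mem_normalizer_iff.1 (D.onor (D.ol hb.2)) a).1 h.2⟩,
      fun h => ⟨(Subgroup.mem_normalizer_iff.1 (D.oy hb.2) a).2 h.1,
        (Subgroup.mem_normalizer_iff.1 (D.onor (D.ol hb.2)) a).2 h.2⟩⟩
  have key : ∀ x ∈ L, ∀ u ∈ cj x Y, cj x Y ⊓ O ≤ A ⊔ A' → ∀ c ∈ A ⊔ A', u * c * u⁻¹ ∈ A ⊔ A' := by
    intro x hx u hu hle c hc
    have hcO : c ∈ O := (sup_le inf_le_right inf_le_right : A ⊔ A' ≤ O) hc
    rw [show u * c * u⁻¹ = (u * c * u⁻¹ * c⁻¹) * c by group]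
    exact mul_mem (hle (D.comm_mem hx hu hcO)) hc
  have hY : ∀ u ∈ Y, u ∈ Subgroup.normalizer ((A ⊔ A' : Subgroup G) : Set G) := by
    intro u hu
    refine Subgroup.mem_normalizer_iff.2 fun c => ⟨key 1 (one_mem L) u (by rwa [cj_one]) (by
      rw [cj_one]; exact le_sup_left) c, fun hc => ?_⟩
    simpa [mul_assoc] using key 1 (one_mem L) u⁻¹ (by rw [cj_one]; exact inv_mem hu)
      (by rw [cj_one]; exact le_sup_left) _ hc
  have hY' : ∀ u ∈ cj g Y, u ∈ Subgroup.normalizer ((A ⊔ A' : Subgroup G) : Set G) := by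
    intro u hu
    refine Subgroup.mem_normalizer_iff.2 fun c => ⟨key g hg u hu le_sup_right c, fun hc => ?_⟩
    simpa [mul_assoc] using key g hg u⁻¹ (inv_mem hu) le_sup_right _ hc
  have h1 := D.ogen (A ⊔ A') le_sup_left (hgen ▸ sup_le hY hY') ho
  obtain ⟨a, ha, b, hb, hab⟩ : o ∈ ((A : Set G) * (A' : Set G)) := by
    rw [← Subgroup.coe_mul_of_right_le_normalizer_left A A' hA]
    exact h1
  exact ⟨a, ha, b, hb, hab.symm⟩

omit D in
theorem fx_inner_mul {x o₁ o₂ : G} (h₁ : Fx Y L x o₁) (h₂ : Fx Y L x o₂) (ho₁ : o₁ ∈ L) :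
    Fx Y L x (o₁ * o₂) := by
  obtain ⟨z, hz, e⟩ := conj_of_fx h₁
  obtain ⟨z', hz', e'⟩ := conj_of_fx h₂
  unfold Fx
  rw [show x * (o₁ * o₂) * x⁻¹ = (x * o₁ * x⁻¹) * (x * o₂ * x⁻¹) by group, e, e',
    show z * o₁ * (z' * o₂) * (o₁ * o₂)⁻¹ = z * (o₁ * z' * o₁⁻¹) by group, z_conj hz' ho₁]
  exact mul_mem hz hz'

omit D in
theorem fx_inner_inv {x o : G} (h : Fx Y L x o) (ho : o ∈ L) : Fx Y L x o⁻¹ := by
  obtain ⟨z, hz, e⟩ := conj_of_fx h
  unfold Fx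
  rw [show x * o⁻¹ * x⁻¹ = (x * o * x⁻¹)⁻¹ by group, e,
    show (z * o)⁻¹ * o⁻¹⁻¹ = o⁻¹ * z⁻¹ * o⁻¹⁻¹ by group, z_conj (inv_mem hz) (inv_mem ho)]
  exact inv_mem hz

omit D in
theorem fx_mul {x y o : G} (hx : x ∈ L) (h₁ : Fx Y L x o) (h₂ : Fx Y L y o) : Fx Y L (x * y) o := by
  obtain ⟨z, hz, e⟩ := conj_of_fx h₂
  unfold Fx at *
  rw [show x * y * o * (x * y)⁻¹ * o⁻¹ = x * (y * o * y⁻¹) * x⁻¹ * o⁻¹ by group, e,
    show x * (z * o) * x⁻¹ * o⁻¹ = (x * z * x⁻¹) * (x * o * x⁻¹ * o⁻¹) by group, z_conj hz hx]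
  exact mul_mem hz h₁

omit D in
theorem fx_one (o : G) : Fx Y L 1 o := by
  unfold Fx
  rw [one_mul, inv_one, mul_one, mul_inv_cancel]
  exact one_mem _

omit D in
theorem fx_inv {x o : G} (hx : x ∈ L) (h : Fx Y L x o) : Fx Y L x⁻¹ o := by
  obtain ⟨z, hz, e⟩ := conj_of_fx h
  have e' : o = z * (x⁻¹ * o * x) := by
    have h2 := congrArg (fun t => x⁻¹ * t * x) e
    rw [show x⁻¹ * (x * o * x⁻¹) * x = o by group,
      show x⁻¹ * (z * o) * x = x⁻¹ * z * x⁻¹⁻¹ * (x⁻¹ * o * x) by group, z_conj hz (inv_mem hx)] at h2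
    exact h2
  unfold Fx
  rw [inv_inv]
  nth_rewrite 2 [e']
  rw [show x⁻¹ * o * x * (z * (x⁻¹ * o * x))⁻¹ = z⁻¹ by group]
  exact inv_mem hz

omit D in
/-- The elements of `L` fixing `o` modulo `Z`. -/
def fxStab (Y L : Subgroup G) (o : G) : Subgroup G where
  carrier := {x | x ∈ L ∧ Fx Y L x o}
  one_mem' := ⟨one_mem L, fx_one o⟩
  mul_mem' hx hy := ⟨mul_mem hx.1 hy.1, fx_mul hx.1 hx.2 hy.2⟩
  inv_mem' hx := ⟨inv_mem hx.1, fx_inv hx.1 hx.2⟩

/-- A conjugate of `Y` centralises the elements of `O` in it. -/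
theorem fx_of_mem {x u a : G} (hu : u ∈ cj x Y) (ha : a ∈ cj x Y) : Fx Y L u a := by
  unfold Fx
  have h := D.comm _ (mem_cj.1 hu) _ (mem_cj.1 ha)
  have h2 : u * a = a * u := by
    have := congrArg (fun t => x * t * x⁻¹) h
    simpa [mul_assoc] using this
  rw [h2, mul_inv_cancel_right, mul_inv_cancel]
  exact one_mem _

/-- Commutators in `O` are in `Z`. -/
theorem fx_o {c o : G} (hc : c ∈ O) (ho : o ∈ O) : Fx Y L c o := by
  obtain ⟨g, hg, hgen⟩ := D.exists_gen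
  have hgen' : cj g Y ⊔ cj 1 Y = L := by rw [cj_one, sup_comm, hgen]
  have key : ∀ a ∈ Y ⊓ O, ∀ b ∈ cj g Y ⊓ O, Fx Y L a b := fun a ha b hb => by
    refine D.inter_gen (one_mem L) hgen' ?_ ?_
    · exact (D.comm_mem (one_mem L) (by rw [cj_one]; exact ha.1) hb.2).1
    · rw [mul_assoc, mul_assoc, ← mul_assoc b, ← mul_assoc a, show a * (b * a⁻¹) * b⁻¹ =
        (a * b * a⁻¹) * b⁻¹ by group]
      exact mul_mem ((Subgroup.mem_normalizer_iff.1 (D.o_le_normalizer_cj hg ha.2) b).1 hb.1) (inv_mem hb.1)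
  have key' : ∀ a ∈ Y ⊓ O, ∀ b ∈ cj g Y ⊓ O, Fx Y L b a := fun a ha b hb => by
    have h := inv_mem (key a ha b hb)
    unfold Fx
    rwa [show (a * b * a⁻¹ * b⁻¹)⁻¹ = b * a * b⁻¹ * a⁻¹ by group] at h
  obtain ⟨a, ha, b, hb, rfl⟩ := D.decomp hg hgen hc
  obtain ⟨a', ha', b', hb', rfl⟩ := D.decomp hg hgen ho
  refine fx_inner_mul (fx_mul (D.ol ha.2) ?_ ?_) (fx_mul (D.ol ha.2) ?_ ?_) (D.ol ha'.2)
  · exact D.fx_of_mem (x := 1) (by rw [cj_one]; exact ha.1) (by rw [cj_one]; exact ha'.1)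
  · exact key' a' ha' b hb
  · exact key a ha b' hb'
  · exact D.fx_of_mem hb.1 hb'.1

/-- The fixed points of `Y`. -/
theorem mem_of_fx_all {o : G} (ho : o ∈ O) (h : ∀ y ∈ Y, Fx Y L y o) : o ∈ Y := by
  obtain ⟨g, hg, hgen⟩ := D.exists_gen
  obtain ⟨a, ha, b, hb, rfl⟩ := D.decomp hg hgen ho
  refine mul_mem ha.1 (D.fixed_mem hg hb.1 fun l hl => ?_).1
  have h1 : Y ≤ fxStab Y L b := fun y hy => ⟨D.yl hy, by
    have h2 := fx_inner_mul (fx_inner_inv (D.fx_of_mem (x := 1) (u := y) (a := a) (by rw [cj_one]; exact hy)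
      (by rw [cj_one]; exact ha.1)) (D.ol ha.2)) (h y hy) (inv_mem (D.ol ha.2))
    rwa [inv_mul_cancel_left] at h2⟩
  have h2 : cj g Y ≤ fxStab Y L b := fun y hy => ⟨D.cj_le hg hy, D.fx_of_mem hy hb.1⟩
  exact (sup_le h1 h2 (show l ∈ Y ⊔ cj g Y by rw [hgen]; exact hl)).2

end Data

end CfsgLib.Fusion.FrakL
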