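import Cfsg.Prelude.Def_LocalStructure
import Cfsg.Agent.Lib.Fusion.FrakL.Suzuki
import Cfsg.Agent.Lib.Lie.Suz.Twisted
import Cfsg.Agent.Lib.Coprime.Core

/-!
# Fixed-point-free action of elements of `𝔏_G(Y_M)`
-/

set_option autoImplicit false
set_option linter.unusedSectionVars false

namespace CfsgLib.Fusion.FrakL

variable {G : Type*} [Group G] [Finite G] {p : ℕ} [hp : Fact p.Prime]

theorem elementary_facts {L : Type*} [Group L] {V : Subgroup L} (hV : Cfsg.IsElementaryAbelian p V) :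
    (∀ a ∈ V, ∀ b ∈ V, a * b = b * a) ∧ ∀ a ∈ V, a ^ p = 1 :=
  ⟨fun a ha b hb => congrArg Subtype.val (hV.1.is_comm.comm ⟨a, ha⟩ ⟨b, hb⟩), hV.2⟩

theorem pReduced_commute {L : Type*} [Group L] {V W : Subgroup L} (hV : Cfsg.IsPReducedNormal p V)
    (hW : Cfsg.IsPReducedNormal p W) : ∀ a ∈ V, ∀ b ∈ W, a * b = b * a := by
  obtain ⟨-, -, hn, hcore⟩ := hV
  obtain ⟨hWn, hWe, -⟩ := hW
  have hWp : IsPGroup p W := fun w => ⟨1, by
    rw [pow_one]; exact Subtype.ext ((elementary_facts hWe).2 w w.2)⟩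
  have hle : W.map (QuotientGroup.mk' (Subgroup.centralizer (V : Set L))) ≤
      Cfsg.pCore p (L ⧸ Subgroup.centralizer (V : Set L)) :=
    le_sSup ⟨hWn.map _ (QuotientGroup.mk'_surjective _), hWp.map _⟩
  rw [hcore, le_bot_iff, Subgroup.map_eq_bot_iff, QuotientGroup.ker_mk'] at hle
  exact fun a ha b hb => Subgroup.mem_centralizer_iff.1 (hle hb) a ha

/-- `Y_L` is abelian of exponent `p`. -/
theorem largestPReduced_facts {L : Type*} [Group L] :
    (∀ a ∈ Cfsg.largestPReduced p L, ∀ b ∈ Cfsg.largestPReduced p L, a * b = b * a) ∧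
      ∀ a ∈ Cfsg.largestPReduced p L, a ^ p = 1 := by
  have hS : Cfsg.largestPReduced p L =
      Subgroup.closure (⋃ V ∈ {V : Subgroup L | Cfsg.IsPReducedNormal p V}, (V : Set L)) := by
    refine le_antisymm (sSup_le fun V hV => fun x hx => Subgroup.subset_closure (Set.mem_biUnion hV hx))
      ((Subgroup.closure_le _).2 fun x hx => ?_)
    obtain ⟨V, hV, hx⟩ := Set.mem_iUnion₂.1 hx
    exact (le_sSup hV : V ≤ _) hx
  have hc : ∀ a ∈ Cfsg.largestPReduced p L, ∀ b ∈ Cfsg.largestPReduced p L, a * b = b * a := by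
    rw [hS]
    intro a ha b hb
    have h1 : Subgroup.closure (⋃ V ∈ {V : Subgroup L | Cfsg.IsPReducedNormal p V}, (V : Set L)) ≤
        Subgroup.centralizer ((Subgroup.closure (⋃ V ∈ {V : Subgroup L | Cfsg.IsPReducedNormal p V},
          (V : Set L)) : Subgroup L) : Set L) := by
      rw [Subgroup.centralizer_closure, Subgroup.closure_le]
      intro x hx
      rw [SetLike.mem_coe, Subgroup.mem_centralizer_iff]
      intro y hy
      obtain ⟨V, hV, hx⟩ := Set.mem_iUnion₂.1 hx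
      obtain ⟨W, hW, hy⟩ := Set.mem_iUnion₂.1 hy
      exact pReduced_commute hW hV y hy x hx
    exact Subgroup.mem_centralizer_iff.1 (h1 hb) a ha
  refine ⟨hc, fun a ha => ?_⟩
  have ha' := ha
  rw [hS] at ha'
  induction ha' using Subgroup.closure_induction with
  | mem x hx =>
    obtain ⟨V, hV, hx⟩ := Set.mem_iUnion₂.1 hx
    exact (elementary_facts hV.2.1).2 x hx
  | one => exact one_pow p
  | mul x y hx hy ihx ihy =>
    rw [(show Commute x y from hc x (hS ▸ hx) y (hS ▸ hy)).mul_pow, ihx (hS ▸ hx), ihy (hS ▸ hy), one_mul]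
  | inv x hx ihx => rw [inv_pow, ihx (hS ▸ hx), inv_one]

/-- Data of a member of `𝔏_G(Y_M)`. -/
theorem data_of_frakL {M L : Subgroup G} (hL : Cfsg.IsInFrakL p M L) :
    Data p (Cfsg.largestPReducedOf p M) L (Cfsg.pCoreOf p L) := by
  obtain ⟨hYL, hO, hON, ⟨hncl, -⟩, -, ⟨hlt, hmax⟩, -⟩ := hL
  set Y := Cfsg.largestPReducedOf p M
  set O := Cfsg.pCoreOf p L
  have hcomm := (largestPReduced_facts (p := p) (L := ↥M)).1
  have hexp := (largestPReduced_facts (p := p) (L := ↥M)).2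
  have hnorm : ∀ (B : Subgroup G), L ≤ Subgroup.normalizer (B : Set G) → (B.subgroupOf L).Normal :=
    fun B hB => ⟨fun b hb l => (Subgroup.mem_normalizer_iff.1 (hB l.2) _).1 hb⟩
  refine ⟨hYL, ?_, ?_, Subgroup.map_subtype_le _, ?_, ?_, hON, ?_, ?_, ?_, ?_, fun X hYX hXL =>
    (hmax X hYX hXL).trans inf_le_right⟩
  · rintro _ ⟨a, ha, rfl⟩ _ ⟨b, hb, rfl⟩
    exact congrArg Subtype.val (hcomm a ha b hb)
  · rintro _ ⟨a, ha, rfl⟩
    exact congrArg Subtype.val (hexp a ha)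
  · refine IsPGroup.map ?_ _
    exact CfsgLib.Coprime.pCore_isPGroup (G := ↥L) p
  · intro x hx
    rw [Subgroup.mem_normalizer_iff]
    have hn : (Cfsg.pCore p ↥L).Normal := CfsgLib.Coprime.pCore_normal' (G := ↥L) p
    intro o
    constructor
    · rintro ⟨o, ho, rfl⟩
      exact ⟨⟨x, hx⟩ * o * (⟨x, hx⟩ : ↥L)⁻¹, hn.conj_mem o ho _, rfl⟩
    · rintro ⟨o', ho, he⟩
      refine ⟨(⟨x, hx⟩ : ↥L)⁻¹ * o' * ⟨x, hx⟩, by simpa using hn.conj_mem o' ho (⟨x, hx⟩ : ↥L)⁻¹, ?_⟩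
      have he' : (o' : G) = x * o * x⁻¹ := he
      show x⁻¹ * (o' : G) * x = o
      rw [he']; group
  · intro B hAB hLB
    rw [hO]
    haveI := hnorm B hLB
    exact (Subgroup.map_mono (Subgroup.normalClosure_le_normal (N := B.subgroupOf L) fun a ha => hAB ha)).trans
      (Subgroup.map_le_iff_le_comap.2 le_rfl)
  · intro K hKL hK hLK k hk
    haveI := hnorm K hLK
    exact ⟨⟨k, hKL hk⟩, (le_sSup ⟨inferInstance, hK.comap_of_injective L.subtype L.subtype_injective⟩ :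
      K.subgroupOf L ≤ Cfsg.pCore p ↥L) hk, rfl⟩
  · intro X hXL hYX hLX l hl
    haveI := hnorm X hLX
    have h1 : (⊤ : Subgroup ↥L) ≤ X.subgroupOf L :=
      hncl ▸ Subgroup.normalClosure_le_normal (fun a ha => hYX ha)
    exact h1 (Subgroup.mem_top ⟨l, hl⟩)
  · exact fun h => (inf_eq_left.2 h ▸ hlt).ne rfl

/-- Main statement. -/
theorem mem_of_frakL {M L : Subgroup G} (hL : Cfsg.IsInFrakL p M L) {h a : G} (hh : h ∈ L)
    (hnp : ¬ ∃ k : ℕ, orderOf h = p ^ k) (ha : a ∈ Cfsg.pCoreOf p L)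
    (hfx : h * a * h⁻¹ * a⁻¹ ∈ Cfsg.largestPReducedOf p M ⊓ Subgroup.centralizer (L : Set G)) :
    a ∈ Cfsg.largestPReducedOf p M ⊓ Subgroup.centralizer (L : Set G) := by
  classical
  have D := data_of_frakL hL
  obtain ⟨-, -, -, -, -, -, hiso⟩ := hL
  set Y := Cfsg.largestPReducedOf p M
  set O := Cfsg.pCoreOf p L with hOdef
  haveI : (Cfsg.pCore p ↥L).Normal := CfsgLib.Coprime.pCore_normal' (G := ↥L) p
  let mk := QuotientGroup.mk' (Cfsg.pCore p ↥L)
  -- the projection onto a model of the quotient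
  have hmk : ∀ l : ↥L, mk l = 1 ↔ (l : G) ∈ O := fun l => by
    rw [show mk l = (QuotientGroup.mk l : ↥L ⧸ Cfsg.pCore p ↥L) from rfl, QuotientGroup.eq_one_iff]
    exact ⟨fun hl => ⟨l, hl, rfl⟩, fun ⟨o, ho, he⟩ => Subtype.ext he ▸ ho⟩
  set W₀ := (Y.subgroupOf L).map mk with hW₀
  have hYp : IsPGroup p (Y.subgroupOf L) :=
    (D.y_isPGroup).comap_of_injective L.subtype L.subtype_injective
  have hcard₀ : Nat.card W₀ = (Y ⊓ O).relIndex Y := by
    let f : ↥Y →* ↥L ⧸ Cfsg.pCore p ↥L := mk.comp (Subgroup.inclusion D.yl)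
    have hr : f.range = W₀ := by
      ext x
      constructor
      · rintro ⟨y, rfl⟩
        exact ⟨_, y.2, rfl⟩
      · rintro ⟨l, hl, rfl⟩
        exact ⟨⟨l, hl⟩, rfl⟩
    have hk : f.ker = (Y ⊓ O).subgroupOf Y := by
      ext y
      rw [MonoidHom.mem_ker, Subgroup.mem_subgroupOf, Subgroup.mem_inf]
      exact (hmk _).trans (iff_and_self.2 fun _ => y.2)
    rw [← hr, ← Subgroup.index_ker, hk]
    rfl
  have hW₀ne : W₀ ≠ ⊥ := by
    rw [hW₀, ne_eq, Subgroup.map_eq_bot_iff]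
    intro hle
    have hY : Y ≤ O := fun y hy => (hmk ⟨y, D.yl hy⟩).1 (hle (show (⟨y, D.yl hy⟩ : ↥L) ∈ Y.subgroupOf L from hy))
    exact D.ny ((D.gen O D.ol hY D.onor).trans D.oy)
  have hexp₀ : ∀ w ∈ W₀, w ^ p = 1 := by
    rintro _ ⟨l, hl, rfl⟩
    rw [← map_pow]
    exact (hmk _).2 (by rw [Subgroup.coe_pow, show (l : G) ^ p = 1 from D.expo _ hl]; exact one_mem O)
  -- two conjugates generate the quotient
  obtain ⟨g, hg, hgen⟩ := D.exists_gen
  have htwo : p = 2 → Nat.card W₀ = 2 → OrderOrTI p W₀ ∧ TwoFactor p W₀ := by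
    intro hp2 hW2
    refine ⟨Or.inl (hW2.trans hp2.symm), ?_⟩
    obtain ⟨u, hu, hu1⟩ := (Subgroup.ne_bot_iff_exists_ne_one.1 hW₀ne).imp fun _ h => (⟨trivial, h⟩ : True ∧ _)
    subst hp2
    refine twoFactor_of_two_gen (g := mk ⟨g, hg⟩) u.2 (by rw [← sq]; exact hexp₀ u u.2) fun S huS hgS => ?_
    have hWS : W₀ ≤ S := by
      have h1 : Subgroup.zpowers (u : ↥L ⧸ Cfsg.pCore 2 ↥L) = W₀ :=
        Subgroup.eq_of_le_of_card_ge (Subgroup.zpowers_le.2 u.2) (by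
          rw [Nat.card_zpowers, hW2, orderOf_eq_prime (p := 2) (hexp₀ u u.2) (fun e => hu1 (Subtype.ext e))])
      rw [← h1]
      exact Subgroup.zpowers_le.2 huS
    have hYS : Y ⊔ cj g Y ≤ (S.comap mk).map L.subtype := by
      refine sup_le (fun y hy => ⟨⟨y, D.yl hy⟩, hWS ⟨_, hy, rfl⟩, rfl⟩) ?_
      rintro _ ⟨y, hy, rfl⟩
      refine ⟨⟨g, hg⟩ * ⟨y, D.yl hy⟩ * (⟨g, hg⟩ : ↥L)⁻¹, ?_, rfl⟩
      show mk _ ∈ S
      rw [map_mul, map_mul, map_inv]
      have h1 : Subgroup.zpowers (mk ⟨g, hg⟩ * (u : ↥L ⧸ Cfsg.pCore 2 ↥L) * (mk ⟨g, hg⟩)⁻¹) ≤ S :=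
        Subgroup.zpowers_le.2 hgS
      have h2 : mk ⟨y, D.yl hy⟩ ∈ Subgroup.zpowers (u : ↥L ⧸ Cfsg.pCore 2 ↥L) := by
        rw [Subgroup.eq_of_le_of_card_ge (Subgroup.zpowers_le.2 u.2 : Subgroup.zpowers _ ≤ W₀) (by
          rw [Nat.card_zpowers, hW2, orderOf_eq_prime (p := 2) (hexp₀ u u.2) (fun e => hu1 (Subtype.ext e))])]
        exact ⟨_, hy, rfl⟩
      obtain ⟨i, hi⟩ := Subgroup.mem_zpowers_iff.1 h2
      rw [← hi, ← conj_zpow]
      exact h1 (zpow_mem (Subgroup.mem_zpowers _) i)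
    rw [hgen] at hYS
    refine eq_top_iff.2 fun x _ => ?_
    obtain ⟨l, rfl⟩ := QuotientGroup.mk'_surjective _ x
    obtain ⟨l', hl', he⟩ := hYS l.2
    exact (Subtype.ext he : l' = l) ▸ hl'
  -- transfer along an isomorphism
  have hfinish : ∀ {X : Type} [Group X] (e : ↥L ⧸ Cfsg.pCore p ↥L ≃* X),
      OrderOrTI p ((Y.subgroupOf L).map (e.toMonoidHom.comp mk)) ∧
        TwoFactor p ((Y.subgroupOf L).map (e.toMonoidHom.comp mk)) →
      a ∈ Y ⊓ Subgroup.centralizer (L : Set G) := fun e he =>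
    D.mem_of_fx _ (e.surjective.comp (QuotientGroup.mk'_surjective _)) (fun l => by
      rw [MonoidHom.comp_apply, MulEquiv.coe_toMonoidHom, MulEquiv.map_eq_one_iff, hmk]) he.1 he.2 hh hnp ha hfx
  have hmapcard : ∀ {X : Type} [Group X] (e : ↥L ⧸ Cfsg.pCore p ↥L ≃* X),
      Nat.card ((Y.subgroupOf L).map (e.toMonoidHom.comp mk)) = (Y ⊓ O).relIndex Y ∧
      (∀ w ∈ (Y.subgroupOf L).map (e.toMonoidHom.comp mk), w ^ p = 1) := fun e => by
    rw [← Subgroup.map_map]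
    refine ⟨(Subgroup.card_map_of_injective e.injective).trans hcard₀, ?_⟩
    rintro _ ⟨w, hw, rfl⟩
    rw [← map_pow, hexp₀ w hw, map_one]
  rcases hiso with ⟨F, _, _, hq, ⟨e⟩⟩ | ⟨hp2, F, _, _, m, hF, hq, ⟨e⟩⟩ | ⟨hp2, r, hr, hr2, ⟨e⟩⟩
  · obtain ⟨k, hk⟩ := IsPGroup.iff_card.1 (hYp.map mk)
    rw [hcard₀, ← hq] at hk
    haveI : CharP F p := by
      obtain ⟨c, hc⟩ := CharP.exists F
      obtain ⟨n, hcp, hn⟩ := FiniteField.card F c
      have hk0 : k ≠ 0 := fun e0 => by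
        rw [e0, pow_zero] at hk
        exact absurd hk Fintype.one_lt_card.ne'
      have hpc : p ∣ c := hp.out.dvd_of_dvd_pow (n := (n : ℕ)) (hn ▸ hk ▸ dvd_pow_self p hk0)
      rwa [(Nat.prime_dvd_prime_iff_eq hp.out hcp).1 hpc]
    obtain ⟨hc, he⟩ := hmapcard e
    exact hfinish e (sl_two_good (hYp.map _) he (hc.trans hq.symm))
  · subst hp2
    rcases Nat.eq_zero_or_pos m with rfl | hm
    · refine D.mem_of_fx mk (QuotientGroup.mk'_surjective _) hmk ?_ ?_ hh hnp ha hfx <;>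
        have h2 := htwo rfl (by rw [hcard₀, ← hq, hF]; rfl)
      exacts [h2.1, h2.2]
    · obtain ⟨eS⟩ := CfsgLib.Lie.Suz.exists_twEquiv hm hF
      let e' := e.trans eS.symm
      haveI : Finite (Cfsg.Sz F m) := Finite.of_equiv _ e'.toEquiv
      obtain ⟨hc, he⟩ := hmapcard e'
      exact hfinish e' (suzuki_good hm hF (hYp.map _) he (hc.trans hq.symm))
  · subst hp2
    refine D.mem_of_fx mk (QuotientGroup.mk'_surjective _) hmk ?_ ?_ hh hnp ha hfx <;>
      have h2 := htwo rfl (by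
        obtain ⟨k, hk⟩ := IsPGroup.iff_card.1 (hYp.map mk)
        have hd : Nat.card W₀ ∣ 2 * r := by
          rw [← DihedralGroup.nat_card, ← Nat.card_congr e.toEquiv]
          exact Subgroup.card_subgroup_dvd_card _
        rw [hW₀] at hd ⊢
        rw [hk] at hd ⊢
        rcases k with _ | _ | k
        · exact absurd (Subgroup.eq_bot_of_card_eq _ hk) hW₀ne
        · rfl
        · exfalso
          have h4 : 2 * 2 ∣ 2 * r := (Dvd.intro_left _ (by ring : 2 ^ k * (2 * 2) = 2 ^ (k + 1 + 1))).trans hd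
          exact hr2 ((Nat.prime_dvd_prime_iff_eq Nat.prime_two hr).1 (Nat.dvd_of_mul_dvd_mul_left two_pos h4)).symm)
    exacts [h2.1, h2.2]

end CfsgLib.Fusion.FrakL
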