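import Cfsg.Agent.Lib.Fusion.FrakL.Core

/-!
# Elements of order prime to `p` act without fixed points on `O/Z`
-/

set_option autoImplicit false
set_option linter.unusedSectionVars false

namespace CfsgLib.Fusion.FrakL

variable {G : Type*} [Group G] [Finite G] {p : ℕ} [hp : Fact p.Prime]

/-- Either order `p`, or the elements of exponent `p` in a Sylow subgroup and a TI property. -/
def OrderOrTI (p : ℕ) {X : Type*} [Group X] (W : Subgroup X) : Prop :=
  Nat.card W = p ∨ ((∀ (P Q : Sylow p X) (x : X), x ∈ P → x ∈ Q → x ≠ 1 → P = Q) ∧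
    ∀ P : Sylow p X, Nat.card {x : X // x ∈ P ∧ x ^ p = 1} ≤ Nat.card W)

/-- Every element of prime order other than `p` is a `p`-power of a product of two conjugates from `W`. -/
def TwoFactor (p : ℕ) {X : Type*} [Group X] (W : Subgroup X) : Prop :=
  ∀ h : X, (orderOf h).Prime → orderOf h ≠ p →
    ∃ a ∈ W, ∃ b ∈ W, ∃ (s t : X) (k : ℕ), h = (s * a * s⁻¹ * (t * b * t⁻¹)) ^ p ^ k

namespace Data

variable {Y L O : Subgroup G} (D : Data p Y L O)
include D

variable {X : Type*} [Group X] (π : ↥L →* X) (hsurj : Function.Surjective π)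
  (hker : ∀ l : ↥L, π l = 1 ↔ (l : G) ∈ O)
include hsurj hker

omit hsurj hker in
theorem y_isPGroup : IsPGroup p Y := fun y => ⟨1, by rw [pow_one]; exact Subtype.ext (D.expo y y.2)⟩

omit hsurj hker in
theorem img_isPGroup {x : G} : IsPGroup p ((cj x Y).subgroupOf L) :=
  ((D.y_isPGroup).map _).comap_of_injective L.subtype L.subtype_injective

/-- The fixed points of a nontrivial element of `Y` modulo `O`. -/
theorem mem_of_fx_one (hX : OrderOrTI p ((Y.subgroupOf L).map π)) {u o : G} (hu : u ∈ Y)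
    (hu1 : π ⟨u, D.yl hu⟩ ≠ 1) (ho : o ∈ O) (hfx : Fx Y L u o) : o ∈ Y := by
  haveI : Finite X := Finite.of_surjective π hsurj
  set W := (Y.subgroupOf L).map π with hW
  have huW : π ⟨u, D.yl hu⟩ ∈ W := ⟨⟨u, D.yl hu⟩, hu, rfl⟩
  rcases hX with hcard | ⟨hTI, hom⟩
  · refine D.mem_of_fx_all ho fun y hy => ?_
    have hgen : π ⟨y, D.yl hy⟩ ∈ Subgroup.zpowers (π ⟨u, D.yl hu⟩) := by
      have h1 := Subgroup.eq_of_le_of_card_ge (Subgroup.zpowers_le.2 huW : Subgroup.zpowers _ ≤ W) (by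
        rw [Nat.card_zpowers, hcard, orderOf_eq_prime (p := p) ?_ hu1]
        rw [← map_pow]
        exact (hker _).2 (by simp [D.expo u hu]))
      rw [h1]
      exact ⟨⟨y, D.yl hy⟩, hy, rfl⟩
    obtain ⟨i, hi⟩ := Subgroup.mem_zpowers_iff.1 hgen
    rw [← map_zpow] at hi
    have hc : (((⟨u, D.yl hu⟩ : ↥L) ^ i)⁻¹ * ⟨y, D.yl hy⟩ : ↥L).1 ∈ O :=
      (hker _).1 (by rw [map_mul, map_inv, hi, inv_mul_cancel])
    simp only [Subgroup.coe_mul, Subgroup.coe_inv, Subgroup.coe_zpow] at hc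
    have h2 : y ∈ fxStab Y L o := by
      rw [show y = u ^ i * ((u ^ i)⁻¹ * y) by group]
      exact mul_mem (zpow_mem (show u ∈ fxStab Y L o from ⟨D.yl hu, hfx⟩) i) ⟨D.ol hc, D.fx_o hc ho⟩
    exact h2.2
  · obtain ⟨g, hg, hgen⟩ := D.exists_gen
    obtain ⟨a, ha, b, hb, rfl⟩ := D.decomp hg hgen ho
    refine mul_mem ha.1 ?_
    have hfb : Fx Y L u b := by
      have h2 := fx_inner_mul (fx_inner_inv (D.fx_of_mem (x := 1) (u := u) (a := a) (by rw [cj_one]; exact hu)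
        (by rw [cj_one]; exact ha.1)) (D.ol ha.2)) hfx (inv_mem (D.ol ha.2))
      rwa [inv_mul_cancel_left] at h2
    obtain ⟨z, hz, he⟩ := conj_of_fx hfb
    have hug : u * g ∈ L := mul_mem (D.yl hu) hg
    have hzb : z * b ∈ cj g Y := mul_mem (z_mem_cj hz hg) hb.1
    have hzb' : z * b ∈ cj (u * g) Y := by
      rw [← he, cj_mul]; exact conj_mem_cj hb.1
    rcases D.gen_or hug hg with h | h
    · have := D.inter_gen hug h hzb' hzb
      have h3 := mul_mem (inv_mem hz) this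
      rw [inv_mul_cancel_left] at h3
      exact h3.1
    exfalso
    set W₁ := ((cj g Y).subgroupOf L).map π with hW₁
    set W₂ := ((cj (u * g) Y).subgroupOf L).map π with hW₂
    have hp₁ : IsPGroup p W₁ := (D.img_isPGroup).map π
    have hp₂ : IsPGroup p W₂ := (D.img_isPGroup).map π
    have hn : W₂ ≤ Subgroup.normalizer (W₁ : Set X) :=
      (Subgroup.map_mono (show (cj (u * g) Y).subgroupOf L ≤
        Subgroup.normalizer (((cj g Y).subgroupOf L : Subgroup ↥L) : Set ↥L) from fun l hl => by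
          rw [Subgroup.mem_normalizer_iff]
          intro m
          rw [Subgroup.mem_subgroupOf, Subgroup.mem_subgroupOf]
          exact Subgroup.mem_normalizer_iff.1 (h hl) _)).trans (Subgroup.le_normalizer_map π)
    obtain ⟨Q, hQ⟩ := (hp₂.to_sup_of_normal_right' hp₁ hn).exists_le_sylow
    have hconj : ∀ x (hx : x ∈ L), ((cj x Y).subgroupOf L).map π =
        W.map (MulAut.conj (π ⟨x, hx⟩)).toMonoidHom := by
      intro x hx
      ext c
      constructor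
      · rintro ⟨l, hl, rfl⟩
        obtain ⟨y, hy, hyl⟩ := hl
        refine ⟨π ⟨y, D.yl hy⟩, ⟨_, hy, rfl⟩, ?_⟩
        rw [MulEquiv.coe_toMonoidHom, MulAut.conj_apply, ← map_inv, ← map_mul, ← map_mul]
        exact congrArg π (Subtype.ext hyl)
      · rintro ⟨_, ⟨y, hy, rfl⟩, rfl⟩
        refine ⟨⟨x, hx⟩ * y * (⟨x, hx⟩ : ↥L)⁻¹, ?_, by simp⟩
        exact conj_mem_cj hy
    have hcardW : ∀ x (hx : x ∈ L), Nat.card (((cj x Y).subgroupOf L).map π) = Nat.card W := fun x hx => by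
      rw [hconj x hx]
      exact Subgroup.card_map_of_injective (MulAut.conj (π ⟨x, hx⟩)).injective
    have hexp : ∀ x, ∀ c ∈ ((cj x Y).subgroupOf L).map π, c ^ p = 1 := by
      rintro x _ ⟨l, hl, rfl⟩
      rw [← map_pow, hker]
      have h1 : (x⁻¹ * (l : G) * x) ^ p = 1 := D.expo _ (mem_cj.1 hl)
      have h2 : (x⁻¹ * (l : G) * x) ^ p = x⁻¹ * (l : G) ^ p * x := by
        simpa using (conj_pow (a := x⁻¹) (b := (l : G)) (i := p))
      rw [h2] at h1
      rw [Subgroup.coe_pow, show (l : G) ^ p = x * (x⁻¹ * (l : G) ^ p * x) * x⁻¹ by group, h1, mul_one,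
        mul_inv_cancel]
      exact one_mem O
    -- a conjugate inside a Sylow subgroup is the set of its elements of exponent `p`
    have hfull : ∀ (R : Sylow p X) x, x ∈ L → ((cj x Y).subgroupOf L).map π ≤ (R : Subgroup X) →
        ∀ c ∈ R, c ^ p = 1 → c ∈ ((cj x Y).subgroupOf L).map π := by
      intro R x hx hle c hc hcp
      set T := ((cj x Y).subgroupOf L).map π
      let f : T → {x : X // x ∈ R ∧ x ^ p = 1} := fun d => ⟨d, hle d.2, hexp x d d.2⟩
      have hf : Function.Injective f := fun d e h => Subtype.ext (congrArg (fun t => t.1) h)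
      have hb := Function.Injective.bijective_of_nat_card_le hf ((hom R).trans (hcardW x hx).ge)
      obtain ⟨d, hd⟩ := hb.2 ⟨c, hc, hcp⟩
      exact (congrArg (fun t => t.1) hd : (d : X) = c) ▸ d.2
    have heq : W₂ = W₁ := le_antisymm
      (fun c hc => hfull Q g hg (le_sup_right.trans hQ) c (hQ (Subgroup.mem_sup_left hc)) (hexp _ c hc))
      (fun c hc => hfull Q (u * g) hug (le_sup_left.trans hQ) c (hQ (Subgroup.mem_sup_right hc)) (hexp _ c hc))
    set ub := π ⟨u, D.yl hu⟩ with hub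
    have hmap : W₁.map (MulAut.conj ub).toMonoidHom = W₁ := by
      have h1 := hconj g hg
      have h2 := hconj (u * g) hug
      rw [← hW₁] at h1
      rw [← hW₂] at h2
      rw [h1, Subgroup.map_map]
      refine Eq.trans ?_ (h2.symm.trans (heq.trans h1))
      congr 1
      ext c
      rw [show (⟨u * g, hug⟩ : ↥L) = ⟨u, D.yl hu⟩ * ⟨g, hg⟩ from rfl, map_mul]
      simp [hub, mul_assoc]
    have hubN : Subgroup.zpowers ub ≤ Subgroup.normalizer (W₁ : Set X) := by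
      rw [Subgroup.zpowers_le, Subgroup.mem_normalizer_iff]
      intro c
      constructor
      · intro hc; rw [← hmap]; exact ⟨c, hc, rfl⟩
      · intro hc
        rw [← hmap] at hc
        obtain ⟨d, hd, hde⟩ := hc
        rwa [← mul_left_cancel (mul_right_cancel hde)]
    have hubp : IsPGroup p (Subgroup.zpowers ub) :=
      ((D.img_isPGroup (x := 1)).map π).to_le (Subgroup.zpowers_le.2 (by rw [cj_one]; exact huW))
    obtain ⟨Q', hQ'⟩ := (hubp.to_sup_of_normal_right' hp₁ hubN).exists_le_sylow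
    obtain ⟨P, hP⟩ := ((D.img_isPGroup (x := 1)).map π).exists_le_sylow
    rw [cj_one] at hP
    have hPQ : P = Q' := hTI P Q' ub (hP huW) (hQ' (Subgroup.mem_sup_left (Subgroup.mem_zpowers ub))) hu1
    have hW1 : W ≤ W₁ := fun c hc =>
      hfull Q' g hg (le_sup_right.trans hQ') c (hPQ ▸ hP hc) (hexp 1 c (by rwa [cj_one]))
    have hWeq : W = W₁ := Subgroup.eq_of_le_of_card_ge hW1 (hcardW g hg).le
    -- then `g` normalises `Y` modulo `O`
    refine D.ny (fun l hl => ?_)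
    rw [← hgen] at hl
    refine (sup_le (fun y hy => Subgroup.mem_normalizer_iff.2 fun c => ?_) (fun y hy => ?_) :
      Y ⊔ cj g Y ≤ Subgroup.normalizer (Y : Set G)) hl
    · exact ⟨fun hc => mul_mem (mul_mem hy hc) (inv_mem hy), fun hc => by
        simpa [mul_assoc] using mul_mem (mul_mem (inv_mem hy) hc) hy⟩
    · have hyL := D.cj_le hg hy
      have h1 : π ⟨y, hyL⟩ ∈ W := hWeq ▸ ⟨⟨y, hyL⟩, hy, rfl⟩
      obtain ⟨y', hy', he'⟩ := h1
      have h2 : ((y'⁻¹ * ⟨y, hyL⟩ : ↥L) : G) ∈ O := (hker _).1 (by rw [map_mul, map_inv, he', inv_mul_cancel])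
      have h3 : y = (y' : G) * ((y'⁻¹ * ⟨y, hyL⟩ : ↥L) : G) := by simp
      rw [h3]
      exact mul_mem (Subgroup.le_normalizer hy') (D.oy h2)

/-- Main lemma. -/
theorem mem_of_fx (hX : OrderOrTI p ((Y.subgroupOf L).map π)) (hR : TwoFactor p ((Y.subgroupOf L).map π))
    {h o : G} (hh : h ∈ L) (hnp : ¬ ∃ k : ℕ, orderOf h = p ^ k) (ho : o ∈ O) (hfx : Fx Y L h o) :
    o ∈ Y ⊓ Subgroup.centralizer (L : Set G) := by
  haveI : Finite X := Finite.of_surjective π hsurj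
  set hl : ↥L := ⟨h, hh⟩
  -- an element of prime order other than `p`
  obtain ⟨r, hr, hrd, hrp⟩ : ∃ r, r.Prime ∧ r ∣ orderOf (π hl) ∧ r ≠ p := by
    by_contra hno
    push Not at hno
    obtain ⟨k, hk⟩ : ∃ k, orderOf (π hl) = p ^ k :=
      ⟨_, Nat.eq_prime_pow_of_unique_prime_dvd (orderOf_pos _).ne' fun hq hd => hno _ hq hd⟩
    have h1 : h ^ p ^ k ∈ O := by
      have h2 := (hker (hl ^ p ^ k)).1 (by rw [map_pow, ← hk, pow_orderOf_eq_one])
      rwa [Subgroup.coe_pow] at h2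
    obtain ⟨j, hj⟩ := D.op ⟨_, h1⟩
    have h3 : h ^ p ^ (k + j) = 1 := by
      rw [pow_add, pow_mul]
      simpa using congrArg Subtype.val hj
    obtain ⟨i, -, hi⟩ := (Nat.dvd_prime_pow hp.out).1 (orderOf_dvd_of_pow_eq_one h3)
    exact hnp ⟨i, hi⟩
  set e := orderOf (π hl) / r
  have hord : orderOf (π hl ^ e) = r := orderOf_pow_orderOf_div (orderOf_pos _).ne' hrd
  obtain ⟨a, ⟨a₀, ha₀, rfl⟩, b, ⟨b₀, hb₀, rfl⟩, s, t, k, heq⟩ := hR (π hl ^ e) (hord.symm ▸ hr) (hord.symm ▸ hrp)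
  obtain ⟨s₀, rfl⟩ := hsurj s
  obtain ⟨t₀, rfl⟩ := hsurj t
  set ul : ↥L := s₀ * a₀ * s₀⁻¹
  set vl : ↥L := t₀ * b₀ * t₀⁻¹
  set n := p ^ k
  have hueq : π (hl ^ e) = π ((ul * vl) ^ n) := by
    simp only [ul, vl, map_pow, map_mul, map_inv]
    exact heq
  have hc : (((hl ^ e)⁻¹ * (ul * vl) ^ n : ↥L) : G) ∈ O :=
    (hker _).1 (by rw [map_mul, map_inv, hueq, inv_mul_cancel])
  set x : G := (s₀ : G)
  set w : G := (t₀ : G)
  set u : G := (ul : G)
  set v : G := (vl : G)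
  have hu : u ∈ cj x Y := by
    show ((s₀ * a₀ * s₀⁻¹ : ↥L) : G) ∈ _
    simpa using conj_mem_cj (x := (s₀ : G)) ha₀
  have hv : v ∈ cj w Y := by
    show ((t₀ * b₀ * t₀⁻¹ : ↥L) : G) ∈ _
    simpa using conj_mem_cj (x := (t₀ : G)) hb₀
  have hne1 : ∀ z : ↥L, π z = π hl ^ e → ¬ ∃ i : ℕ, π z ^ p ^ i = 1 := by
    rintro z hz ⟨i, hi⟩
    rw [hz] at hi
    obtain ⟨j, -, hj⟩ := (Nat.dvd_prime_pow hp.out).1 (orderOf_dvd_of_pow_eq_one hi)
    rw [hord] at hj
    rw [hj] at hr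
    rcases j with _ | j
    · exact Nat.not_prime_one (by simpa using hr)
    · exact hrp (hj.trans (by rw [hr.eq_one_of_pow, pow_one]))
  have hne : ¬ ∃ i : ℕ, π (ul * vl) ^ p ^ i = 1 := fun ⟨i, hi⟩ =>
    hne1 ((ul * vl) ^ n) (by rw [← hueq, map_pow]) ⟨i, by
      rw [map_pow, ← pow_mul, mul_comm, pow_mul, hi, one_pow]⟩
  -- the two conjugates generate
  have hgen : cj w Y ⊔ cj x Y = L := by
    refine (D.gen_or s₀.2 t₀.2).resolve_right fun hle => hne ?_
    have hn : ((cj x Y).subgroupOf L).map π ≤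
        Subgroup.normalizer ((((cj w Y).subgroupOf L).map π : Subgroup X) : Set X) :=
      (Subgroup.map_mono (show (cj x Y).subgroupOf L ≤
        Subgroup.normalizer (((cj w Y).subgroupOf L : Subgroup ↥L) : Set ↥L) from fun l hl => by
          rw [Subgroup.mem_normalizer_iff]
          intro m
          rw [Subgroup.mem_subgroupOf, Subgroup.mem_subgroupOf]
          exact Subgroup.mem_normalizer_iff.1 (hle hl) _)).trans (Subgroup.le_normalizer_map π)
    obtain ⟨i, hi⟩ := ((D.img_isPGroup (x := x)).map π).to_sup_of_normal_right'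
      ((D.img_isPGroup (x := w)).map π) hn ⟨π (ul * vl), by
        rw [map_mul]
        exact mul_mem (Subgroup.mem_sup_left ⟨ul, hu, rfl⟩) (Subgroup.mem_sup_right ⟨vl, hv, rfl⟩)⟩
    exact ⟨i, by simpa using congrArg Subtype.val hi⟩
  have hne_ul : π ul ≠ 1 := fun h1 => hne ⟨1, by
    rw [map_mul, h1, one_mul, ← map_pow, hker, pow_one, Subgroup.coe_pow]
    have h2 : v ^ p = 1 := by
      have h3 : (w⁻¹ * v * w) ^ p = 1 := D.expo _ (mem_cj.1 hv)
      have h4 : (w⁻¹ * v * w) ^ p = w⁻¹ * v ^ p * w := by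
        simpa using (conj_pow (a := w⁻¹) (b := v) (i := p))
      rw [h4] at h3
      calc v ^ p = w * (w⁻¹ * v ^ p * w) * w⁻¹ := by group
        _ = 1 := by rw [h3, mul_one, mul_inv_cancel]
    rw [h2]
    exact one_mem O⟩
  -- fixed points of `u v`
  have hfix : ∀ d ∈ O, Fx Y L (u * v) d → d ∈ Y ⊓ Subgroup.centralizer (L : Set G) := by
    intro d hd hdfx
    have hc1 := D.comm_mem t₀.2 hv hd
    have hc2 := D.comm_mem s₀.2 hu hd
    set c := v * d * v⁻¹ * d⁻¹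
    have hc3 := D.comm_mem s₀.2 hu hc1.2
    have hidn : u * v * d * (u * v)⁻¹ * d⁻¹ = u * c * u⁻¹ * (u * d * u⁻¹ * d⁻¹) := by
      show _ = u * (v * d * v⁻¹ * d⁻¹) * u⁻¹ * _
      group
    unfold Fx at hdfx
    rw [hidn] at hdfx
    have hcx : c ∈ cj x Y := by
      have h4 : c = (u * c * u⁻¹ * c⁻¹)⁻¹ * (u * c * u⁻¹ * (u * d * u⁻¹ * d⁻¹)) *
          (u * d * u⁻¹ * d⁻¹)⁻¹ := by group
      rw [h4]
      exact mul_mem (mul_mem (inv_mem hc3.1) (z_mem_cj hdfx s₀.2)) (inv_mem hc2.1)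
    have hcZ := D.inter_gen s₀.2 hgen hcx hc1.1
    have huZ : Fx Y L u d := by
      unfold Fx
      rw [z_conj hcZ ul.2] at hdfx
      have h5 := mul_mem (inv_mem hcZ) hdfx
      rwa [inv_mul_cancel_left] at h5
    -- move to `Y`
    have hmem : ∀ (y : ↥L) (q : G) (c₀ : G), y.1 ∈ cj q Y → q ∈ L → π y ≠ 1 → c₀ ∈ O →
        Fx Y L y.1 c₀ → c₀ ∈ cj q Y := by
      intro y q c₀ hy hq hy1 hc₀ hf
      rw [mem_cj]
      refine mem_of_fx_one D π hsurj hker hX (u := q⁻¹ * y.1 * q) (mem_cj.1 hy) ?_ (D.o_conj' hq hc₀) ?_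
      · intro h6
        apply hy1
        rw [hker] at h6 ⊢
        simpa [mul_assoc] using D.o_conj hq h6
      · obtain ⟨z, hz, he⟩ := conj_of_fx hf
        unfold Fx
        rw [show q⁻¹ * y.1 * q * (q⁻¹ * c₀ * q) * (q⁻¹ * y.1 * q)⁻¹ * (q⁻¹ * c₀ * q)⁻¹ =
          q⁻¹ * (y.1 * c₀ * y.1⁻¹ * c₀⁻¹) * q⁻¹⁻¹ by group, z_conj hf (inv_mem hq)]
        exact hf
    have hdx := hmem ul x d hu s₀.2 hne_ul hd huZ
    refine D.inter_gen s₀.2 hgen hdx ?_
    by_cases hne_vl : π vl = 1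
    · exfalso
      refine hne ⟨1, ?_⟩
      rw [map_mul, hne_vl, mul_one, ← map_pow, hker, pow_one, Subgroup.coe_pow]
      have h3 : (x⁻¹ * u * x) ^ p = 1 := D.expo _ (mem_cj.1 hu)
      have h4 : (x⁻¹ * u * x) ^ p = x⁻¹ * u ^ p * x := by
        simpa using (conj_pow (a := x⁻¹) (b := u) (i := p))
      rw [h4] at h3
      have h5 : u ^ p = x * (x⁻¹ * u ^ p * x) * x⁻¹ := by group
      rw [show ((ul : G)) ^ p = u ^ p from rfl, h5, h3, mul_one, mul_inv_cancel]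
      exact one_mem O
    · exact hmem vl w d hv t₀.2 hne_vl hd hcZ
  -- the fixed points of the power
  set g₀ : G := u * v
  have hg₀ : g₀ ∈ L := mul_mem ul.2 vl.2
  have hfn : Fx Y L (g₀ ^ n) o := by
    have h1 : h ∈ fxStab Y L o := ⟨hh, hfx⟩
    have h2 := mul_mem (pow_mem h1 e) (show _ ∈ fxStab Y L o from ⟨D.ol hc, D.fx_o hc ho⟩)
    simp only [Subgroup.coe_mul, Subgroup.coe_inv, Subgroup.coe_pow] at h2
    rw [show ((hl : ↥L) : G) = h from rfl, mul_inv_cancel_left] at h2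
    exact h2.2
  let W : Subgroup G :=
    { carrier := {d | d ∈ O ∧ Fx Y L (g₀ ^ n) d}
      one_mem' := ⟨one_mem O, by unfold Fx; rw [mul_one, mul_inv_cancel, inv_one, mul_one]; exact one_mem _⟩
      mul_mem' := fun hx hy => ⟨mul_mem hx.1 hy.1, fx_inner_mul hx.2 hy.2 (D.ol hx.1)⟩
      inv_mem' := fun hx => ⟨inv_mem hx.1, fx_inner_inv hx.2 (D.ol hx.1)⟩ }
  by_contra hoZ
  set Zw := (Y ⊓ Subgroup.centralizer (L : Set G)).subgroupOf W with hZw
  haveI : Zw.Normal := ⟨fun z hz d => by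
    rw [hZw, Subgroup.mem_subgroupOf] at hz ⊢
    simp only [Subgroup.coe_mul, Subgroup.coe_inv]
    rw [z_conj hz (D.ol d.2.1)]
    exact hz⟩
  have hgW : ∀ d : W, g₀ * (d : G) * g₀⁻¹ ∈ W := fun d => by
    refine ⟨D.o_conj hg₀ d.2.1, ?_⟩
    have h1 := d.2.2
    unfold Fx at h1 ⊢
    rw [show g₀ ^ n * (g₀ * (d : G) * g₀⁻¹) * (g₀ ^ n)⁻¹ * (g₀ * (d : G) * g₀⁻¹)⁻¹ =
      g₀ * (g₀ ^ n * (d : G) * (g₀ ^ n)⁻¹ * (d : G)⁻¹) * g₀⁻¹ by group, z_conj h1 hg₀]
    exact h1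
  let φ : W →* W := MonoidHom.mk' (fun d => ⟨_, hgW d⟩) fun a b => Subtype.ext (by simp [mul_assoc])
  have hφZ : Zw ≤ Zw.comap φ := fun d hd => by
    rw [Subgroup.mem_comap, hZw, Subgroup.mem_subgroupOf]
    show g₀ * (d : G) * g₀⁻¹ ∈ _
    rw [z_conj (by simpa [hZw, Subgroup.mem_subgroupOf] using hd) hg₀]
    simpa [hZw, Subgroup.mem_subgroupOf] using hd
  let ψ : W ⧸ Zw →* W ⧸ Zw := QuotientGroup.map Zw Zw φ hφZ
  have hψ : ∀ (i : ℕ) (d : W), ∀ hd : g₀ ^ i * (d : G) * (g₀ ^ i)⁻¹ ∈ W,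
      (ψ)^[i] (QuotientGroup.mk d) = QuotientGroup.mk ⟨_, hd⟩ := by
    intro i
    induction i with
    | zero =>
      intro d hd
      rw [Function.iterate_zero, id_eq]
      congr 1
      exact Subtype.ext (by simp)
    | succ i ih =>
      intro d hd
      have hd' : g₀ ^ i * (φ d : G) * (g₀ ^ i)⁻¹ ∈ W := by
        show g₀ ^ i * (g₀ * (d : G) * g₀⁻¹) * (g₀ ^ i)⁻¹ ∈ W
        rwa [show g₀ ^ i * (g₀ * (d : G) * g₀⁻¹) * (g₀ ^ i)⁻¹ =
          g₀ ^ (i + 1) * (d : G) * (g₀ ^ (i + 1))⁻¹ by rw [pow_succ]; group]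
      rw [Function.iterate_succ_apply, QuotientGroup.map_mk, ih _ hd']
      congr 1
      apply Subtype.ext
      show g₀ ^ i * (g₀ * (d : G) * g₀⁻¹) * (g₀ ^ i)⁻¹ = g₀ ^ (i + 1) * (d : G) * (g₀ ^ (i + 1))⁻¹
      rw [pow_succ]; group
  have hiter : ∀ q, (ψ)^[n] q = q := by
    intro q
    obtain ⟨d, rfl⟩ := QuotientGroup.mk_surjective q
    obtain ⟨z, hz, hze⟩ := conj_of_fx d.2.2
    have hdn : g₀ ^ n * (d : G) * (g₀ ^ n)⁻¹ ∈ W := by
      rw [hze]
      refine mul_mem ⟨D.z_le_o hz, ?_⟩ d.2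
      unfold Fx
      rw [z_conj hz (pow_mem hg₀ n), mul_inv_cancel]
      exact one_mem _
    rw [hψ n d hdn, QuotientGroup.eq, hZw, Subgroup.mem_subgroupOf]
    simp only [Subgroup.coe_mul, Subgroup.coe_inv, hze]
    rw [show (z * (d : G))⁻¹ * (d : G) = (d : G)⁻¹ * z⁻¹ * (d : G)⁻¹⁻¹ by group,
      z_conj (inv_mem hz) (inv_mem (D.ol d.2.1))]
    exact inv_mem hz
  classical
  haveI : Fintype (W ⧸ Zw) := Fintype.ofFinite _
  have hbij : Function.Bijective ψ := by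
    refine (Finite.injective_iff_bijective).1 fun q q' hq => ?_
    rw [← hiter q, ← hiter q']
    have hn0 : n = (n - 1) + 1 := (Nat.sub_add_cancel (Nat.one_le_pow _ _ hp.out.pos)).symm
    rw [hn0, Function.iterate_succ_apply, Function.iterate_succ_apply, hq]
  let σ : Equiv.Perm (W ⧸ Zw) := Equiv.ofBijective ψ hbij
  have hσ : σ ^ p ^ k = 1 := Equiv.ext fun q => by
    rw [Equiv.Perm.coe_one, id_eq, ← Equiv.Perm.iterate_eq_pow]
    exact hiter q
  have hpd : p ∣ Fintype.card (W ⧸ Zw) := by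
    obtain ⟨j, hj⟩ := IsPGroup.iff_card.1 ((D.op.to_le (fun d hd => hd.1 : W ≤ O)).to_quotient Zw)
    rw [Nat.card_eq_fintype_card] at hj
    rcases Nat.eq_zero_or_pos j with rfl | hj0
    · exfalso
      have hoW : o ∈ W := ⟨ho, hfn⟩
      have h1 : (QuotientGroup.mk (⟨o, hoW⟩ : W) : W ⧸ Zw) = 1 :=
        Fintype.card_le_one_iff.1 (hj.trans_le (pow_zero p).le) _ _
      rw [QuotientGroup.eq_one_iff, hZw, Subgroup.mem_subgroupOf] at h1
      exact hoZ h1
    · exact hj ▸ dvd_pow_self p hj0.ne'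
  obtain ⟨q, hq, hq1⟩ := Equiv.Perm.exists_fixed_point_of_prime' hpd hσ (a := 1) (map_one ψ)
  obtain ⟨d, rfl⟩ := QuotientGroup.mk_surjective q
  refine hq1 ((QuotientGroup.eq_one_iff _).2 (hfix _ d.2.1 ?_))
  have h1 : (QuotientGroup.mk (φ d) : W ⧸ Zw) = QuotientGroup.mk d := hq
  rw [QuotientGroup.eq, hZw, Subgroup.mem_subgroupOf] at h1
  simp only [Subgroup.coe_mul, Subgroup.coe_inv] at h1
  have h2 := inv_mem h1
  rw [show (((φ d : W) : G)⁻¹ * (d : G))⁻¹ = (d : G)⁻¹ * (((φ d : W) : G) * (d : G)⁻¹) * (d : G)⁻¹⁻¹ by group] at h2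
  have h3 := z_conj h2 (D.ol d.2.1)
  rw [show (d : G) * ((d : G)⁻¹ * (((φ d : W) : G) * (d : G)⁻¹) * (d : G)⁻¹⁻¹) * (d : G)⁻¹ =
    ((φ d : W) : G) * (d : G)⁻¹ by group] at h3
  rw [← h3] at h2
  exact h2

end Data

end CfsgLib.Fusion.FrakL
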