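import Cfsg.Agent.Lib.Fusion.FrakL.NormalizerQuot

/-!
# The normalizer of `Y` in a member of `𝔏_G(Y)`, modulo `O_p(L)`
-/

set_option autoImplicit false
set_option linter.unusedSectionVars false

namespace CfsgLib.Fusion.FrakL

variable {G : Type*} [Group G] [Finite G] {p : ℕ} [hp : Fact p.Prime]

namespace Data

variable {Y L O : Subgroup G} (D : Data p Y L O)
include D

/-- The normalizer of `Y O` in `L` normalizes `Y`. -/
theorem mem_normalizer_of_cj {l : G} (hl : l ∈ L) (hle : cj l Y ≤ Y ⊔ O) :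
    l ∈ Subgroup.normalizer (Y : Set G) := by
  have hX0 : (Y ⊔ O : Subgroup G) ≤ Subgroup.normalizer (Y : Set G) :=
    sup_le Subgroup.le_normalizer D.oy
  set X := L ⊓ Subgroup.normalizer ((Y ⊔ O : Subgroup G) : Set G)
  have hYO : Y ⊔ O ≤ L := sup_le D.yl D.ol
  have hYX : Y ≤ X := le_inf D.yl (le_sup_left.trans Subgroup.le_normalizer)
  have hne : ¬ L ≤ Subgroup.normalizer ((Y ⊔ O : Subgroup G) : Set G) := fun h =>
    D.ny ((D.gen _ hYO le_sup_left h).trans hX0)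
  have hXL : X < L := lt_of_le_of_ne inf_le_left fun e => hne (inf_eq_left.1 e)
  refine D.max X hYX hXL ⟨hl, ?_⟩
  have hmap : (Y ⊔ O).map (MulAut.conj l).toMonoidHom ≤ Y ⊔ O := by
    rw [Subgroup.map_sup]
    refine sup_le hle ?_
    rintro _ ⟨o, ho, rfl⟩
    exact Subgroup.mem_sup_right (D.o_conj hl ho)
  have heq := Subgroup.eq_of_le_of_card_ge hmap
    (le_of_eq (Subgroup.card_map_of_injective (MulAut.conj l).injective).symm)
  refine Subgroup.mem_normalizer_iff.2 fun x => ?_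
  constructor
  · intro hx; rw [← heq]; exact ⟨x, hx, rfl⟩
  · intro hx
    rw [← heq] at hx
    obtain ⟨y, hy, hye⟩ := hx
    have : y = x := (MulAut.conj l).injective hye
    exact this ▸ hy

end Data

/-- Transfer to the quotient group. -/
theorem unique_of_hom {Y L O NL : Subgroup G} (D : Data p Y L O) (hNL : NL = L ⊓ Subgroup.normalizer (Y : Set G))
    [hn : (O.subgroupOf NL).Normal] {X : Type*} [Group X] (π : ↥L →* X) (hπ : Function.Surjective π)
    (hker : ∀ l : ↥L, π l = 1 ↔ (l : G) ∈ O) (hW : (Y.subgroupOf L).map π ≠ ⊥)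
    (huniq : UniqueMin p ((Y.subgroupOf L).map π)) :
    let Ybar : Subgroup (↥NL ⧸ O.subgroupOf NL) := (Y.subgroupOf NL).map (QuotientGroup.mk' (O.subgroupOf NL))
    Ybar ≠ ⊥ ∧ Ybar.Normal ∧ Cfsg.IsElementaryAbelian p Ybar ∧
      ∀ V : Subgroup (↥NL ⧸ O.subgroupOf NL), V.Normal → Cfsg.IsElementaryAbelian p V → V ≠ ⊥ → V = Ybar := by
  intro Ybar
  have hle : NL ≤ L := hNL ▸ inf_le_left
  have hYNL : Y ≤ NL := hNL ▸ le_inf D.yl Subgroup.le_normalizer
  set W := (Y.subgroupOf L).map π with hWdef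
  let j₀ : ↥NL →* X := π.comp (Subgroup.inclusion hle)
  have hj₀ : ∀ n, j₀ n = 1 ↔ n ∈ O.subgroupOf NL := fun n => hker _
  let j : ↥NL ⧸ O.subgroupOf NL →* X := QuotientGroup.lift _ j₀ fun n hn => (hj₀ n).2 hn
  have hj : Function.Injective j := by
    rw [injective_iff_map_eq_one]
    intro x hx
    obtain ⟨n, rfl⟩ := QuotientGroup.mk'_surjective _ x
    exact (QuotientGroup.eq_one_iff n).2 ((hj₀ n).1 hx)
  have hjY : Ybar.map j = W := by
    ext x
    constructor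
    · rintro ⟨_, ⟨n, hn, rfl⟩, rfl⟩
      exact ⟨Subgroup.inclusion hle n, hn, rfl⟩
    · rintro ⟨l, hl, rfl⟩
      exact ⟨_, ⟨⟨l, hYNL hl⟩, hl, rfl⟩, rfl⟩
  have hrange : j.range = Subgroup.normalizer (W : Set X) := by
    refine le_antisymm ?_ ?_
    · rintro _ ⟨x, rfl⟩
      obtain ⟨n, rfl⟩ := QuotientGroup.mk'_surjective _ x
      show π (Subgroup.inclusion hle n) ∈ _
      refine Subgroup.le_normalizer_map π ⟨_, ?_, rfl⟩
      have hn' : (n : G) ∈ Subgroup.normalizer (Y : Set G) := (hNL ▸ n.2 : (n : G) ∈ L ⊓ _).2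
      show Subgroup.inclusion hle n ∈ Subgroup.normalizer _
      rw [Subgroup.mem_normalizer_iff]
      intro m
      exact Subgroup.mem_normalizer_iff.1 hn' (m : G)
    · intro x hx
      obtain ⟨l, rfl⟩ := hπ x
      have hlN : (l : G) ∈ Subgroup.normalizer (Y : Set G) := by
        refine D.mem_normalizer_of_cj l.2 ?_
        rintro _ ⟨y, hy, rfl⟩
        have h1 := (Subgroup.mem_normalizer_iff.1 hx _).1 (⟨⟨y, D.yl hy⟩, hy, rfl⟩ : π ⟨y, D.yl hy⟩ ∈ W)
        rw [← map_inv, ← map_mul, ← map_mul] at h1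
        obtain ⟨y', hy', he⟩ := h1
        have h2 : ((y'⁻¹ * (l * ⟨y, D.yl hy⟩ * l⁻¹) : ↥L) : G) ∈ O :=
          (hker _).1 (by rw [map_mul, map_inv, he, inv_mul_cancel])
        show (l : G) * y * (l : G)⁻¹ ∈ Y ⊔ O
        have h3 : (l : G) * y * (l : G)⁻¹ = (y' : G) * ((y'⁻¹ * (l * ⟨y, D.yl hy⟩ * l⁻¹) : ↥L) : G) := by
          simp
        rw [h3]
        exact Subgroup.mul_mem_sup hy' h2
      exact ⟨QuotientGroup.mk' _ ⟨l, hNL ▸ ⟨l.2, hlN⟩⟩, rfl⟩
  have hexpY : ∀ v ∈ Ybar, v ^ p = 1 := by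
    rintro _ ⟨n, hn, rfl⟩
    rw [← map_pow, show n ^ p = 1 from Subtype.ext (by simpa using D.expo _ hn), map_one]
  refine ⟨fun e => hW (by rw [← hjY, e, Subgroup.map_bot]), ?_, ⟨⟨⟨?_⟩⟩, hexpY⟩, fun V hVn hVe hV1 => ?_⟩
  · refine Subgroup.Normal.map ⟨fun n hn m => ?_⟩ _ (QuotientGroup.mk'_surjective _)
    exact (Subgroup.mem_normalizer_iff.1 (hNL ▸ m.2 : (m : G) ∈ L ⊓ _).2 (n : G)).1 hn
  · rintro ⟨_, a, ha, rfl⟩ ⟨_, b, hb, rfl⟩
    apply Subtype.ext
    show QuotientGroup.mk' _ a * QuotientGroup.mk' _ b = QuotientGroup.mk' _ b * QuotientGroup.mk' _ a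
    rw [← map_mul, ← map_mul]
    exact congrArg _ (Subtype.ext (D.comm _ ha _ hb))
  · apply Subgroup.map_injective hj
    rw [hjY]
    have hle' : V.map j ≤ Subgroup.normalizer (W : Set X) := hrange ▸ Subgroup.map_le_range j V
    refine huniq _ hle' ?_ ?_ fun e => hV1 ((Subgroup.map_eq_bot_iff_of_injective _ hj).1 e)
    · rw [← hrange]
      rintro _ ⟨x, rfl⟩
      refine Subgroup.le_normalizer_map j ⟨x, ?_, rfl⟩
      show x ∈ Subgroup.normalizer (V : Set _)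
      rw [Subgroup.mem_normalizer_iff]
      exact fun v => ⟨fun hv => hVn.conj_mem v hv x, fun hv => by
        simpa [mul_assoc] using hVn.conj_mem _ hv x⁻¹⟩
    · rintro _ ⟨v, hv, rfl⟩
      rw [← map_pow, hVe.2 v hv, map_one]

/-- The statement for a member of `𝔏_G(Y_M)`. -/
theorem unique_of_frakL {M L : Subgroup G} (hL : Cfsg.IsInFrakL p M L) (NL : Subgroup G)
    (hNL : NL = L ⊓ Subgroup.normalizer ((Cfsg.largestPReducedOf p M : Subgroup G) : Set G))
    [hn : ((Cfsg.pCoreOf p L).subgroupOf NL).Normal] :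
    let Ybar : Subgroup (↥NL ⧸ (Cfsg.pCoreOf p L).subgroupOf NL) :=
      ((Cfsg.largestPReducedOf p M).subgroupOf NL).map (QuotientGroup.mk' ((Cfsg.pCoreOf p L).subgroupOf NL))
    Ybar ≠ ⊥ ∧ Ybar.Normal ∧ Cfsg.IsElementaryAbelian p Ybar ∧
      ∀ V : Subgroup (↥NL ⧸ (Cfsg.pCoreOf p L).subgroupOf NL), V.Normal → Cfsg.IsElementaryAbelian p V →
        V ≠ ⊥ → V = Ybar := by
  classical
  have D := data_of_frakL hL
  obtain ⟨-, -, -, -, -, -, hiso⟩ := hL
  set Y := Cfsg.largestPReducedOf p M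
  set O := Cfsg.pCoreOf p L with hOdef
  haveI : (Cfsg.pCore p ↥L).Normal := CfsgLib.Coprime.pCore_normal' (G := ↥L) p
  let mk := QuotientGroup.mk' (Cfsg.pCore p ↥L)
  have hmk : ∀ l : ↥L, mk l = 1 ↔ (l : G) ∈ O := fun l => by
    rw [show mk l = (QuotientGroup.mk l : ↥L ⧸ Cfsg.pCore p ↥L) from rfl, QuotientGroup.eq_one_iff]
    exact ⟨fun hl => ⟨l, hl, rfl⟩, fun ⟨o, ho, he⟩ => Subtype.ext he ▸ ho⟩
  set W₀ := (Y.subgroupOf L).map mk with hW₀
  have hYp : IsPGroup p (Y.subgroupOf L) :=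
    (D.y_isPGroup).comap_of_injective L.subtype L.subtype_injective
  have hcard₀ : Nat.card W₀ = (Y ⊓ O).relIndex Y := by
    let f : ↥Y →* ↥L ⧸ Cfsg.pCore p ↥L := mk.comp (Subgroup.inclusion D.yl)
    have hr : f.range = W₀ := by
      ext x
      constructor
      · rintro ⟨y, rfl⟩
        exact ⟨_, y.2, rfl⟩
      · rintro ⟨l, hl, rfl⟩
        exact ⟨⟨l, hl⟩, rfl⟩
    have hk : f.ker = (Y ⊓ O).subgroupOf Y := by
      ext y
      rw [MonoidHom.mem_ker, Subgroup.mem_subgroupOf, Subgroup.mem_inf]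
      exact (hmk _).trans (iff_and_self.2 fun _ => y.2)
    rw [← hr, ← Subgroup.index_ker, hk]
    rfl
  have hW₀ne : W₀ ≠ ⊥ := by
    rw [hW₀, ne_eq, Subgroup.map_eq_bot_iff]
    intro hle
    have hY : Y ≤ O := fun y hy => (hmk ⟨y, D.yl hy⟩).1 (hle (show (⟨y, D.yl hy⟩ : ↥L) ∈ Y.subgroupOf L from hy))
    exact D.ny ((D.gen O D.ol hY D.onor).trans D.oy)
  have hexp₀ : ∀ w ∈ W₀, w ^ p = 1 := by
    rintro _ ⟨l, hl, rfl⟩
    rw [← map_pow]
    exact (hmk _).2 (by rw [Subgroup.coe_pow, show (l : G) ^ p = 1 from D.expo _ hl]; exact one_mem O)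
  have hfinish : ∀ {X : Type} [Group X] (e : ↥L ⧸ Cfsg.pCore p ↥L ≃* X),
      UniqueMin p ((Y.subgroupOf L).map (e.toMonoidHom.comp mk)) →
      let Ybar : Subgroup (↥NL ⧸ O.subgroupOf NL) := (Y.subgroupOf NL).map (QuotientGroup.mk' (O.subgroupOf NL))
      Ybar ≠ ⊥ ∧ Ybar.Normal ∧ Cfsg.IsElementaryAbelian p Ybar ∧
        ∀ V : Subgroup (↥NL ⧸ O.subgroupOf NL), V.Normal → Cfsg.IsElementaryAbelian p V → V ≠ ⊥ → V = Ybar :=
    fun e he => unique_of_hom D hNL _ (e.surjective.comp (QuotientGroup.mk'_surjective _)) (fun l => by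
      rw [MonoidHom.comp_apply, MulEquiv.coe_toMonoidHom, MulEquiv.map_eq_one_iff, hmk]) (fun h => hW₀ne (by
      rw [← Subgroup.map_map] at h
      exact (Subgroup.map_eq_bot_iff_of_injective _ e.injective).1 h)) he
  have hmapcard : ∀ {X : Type} [Group X] (e : ↥L ⧸ Cfsg.pCore p ↥L ≃* X),
      Nat.card ((Y.subgroupOf L).map (e.toMonoidHom.comp mk)) = (Y ⊓ O).relIndex Y ∧
      (∀ w ∈ (Y.subgroupOf L).map (e.toMonoidHom.comp mk), w ^ p = 1) := fun e => by
    rw [← Subgroup.map_map]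
    refine ⟨(Subgroup.card_map_of_injective e.injective).trans hcard₀, ?_⟩
    rintro _ ⟨w, hw, rfl⟩
    rw [← map_pow, hexp₀ w hw, map_one]
  rcases hiso with ⟨F, _, _, hq, ⟨e⟩⟩ | ⟨hp2, F, _, _, m, hF, hq, ⟨e⟩⟩ | ⟨hp2, r, hr, hr2, ⟨e⟩⟩
  · obtain ⟨k, hk⟩ := IsPGroup.iff_card.1 (hYp.map mk)
    rw [hcard₀, ← hq] at hk
    haveI : CharP F p := by
      obtain ⟨c, hc⟩ := CharP.exists F
      obtain ⟨n, hcp, hn⟩ := FiniteField.card F c
      have hk0 : k ≠ 0 := fun e0 => by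
        rw [e0, pow_zero] at hk
        exact absurd hk Fintype.one_lt_card.ne'
      have hpc : p ∣ c := hp.out.dvd_of_dvd_pow (n := (n : ℕ)) (hn ▸ hk ▸ dvd_pow_self p hk0)
      rwa [(Nat.prime_dvd_prime_iff_eq hp.out hcp).1 hpc]
    obtain ⟨hc, he⟩ := hmapcard e
    exact hfinish e (sl_uniqueMin (hYp.map _) he (hc.trans hq.symm))
  · subst hp2
    rcases Nat.eq_zero_or_pos m with rfl | hm
    · exfalso
      have hc := hcard₀
      have he := hexp₀
      obtain ⟨g, hg, hgen⟩ := D.exists_gen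
      obtain ⟨u, hu⟩ := Subgroup.ne_bot_iff_exists_ne_one.1 hW₀ne
      have hW2 : Nat.card W₀ = 2 := by rw [hc, ← hq, hF]; rfl
      have hzu : Subgroup.zpowers (u : ↥L ⧸ Cfsg.pCore 2 ↥L) = W₀ :=
        Subgroup.eq_of_le_of_card_ge (Subgroup.zpowers_le.2 u.2) (by
          rw [Nat.card_zpowers, hW2, orderOf_eq_prime (p := 2) (he u u.2) (fun e => hu (Subtype.ext e))])
      refine suzuki_two_not_two_gen hF (e u) (e (mk ⟨g, hg⟩)) (by rw [← map_mul, ← sq, he u u.2, map_one])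
        fun S huS hgS => ?_
      have hWS : W₀ ≤ S.comap e.toMonoidHom := hzu ▸ Subgroup.zpowers_le.2 huS
      have hgS' : ∀ w ∈ W₀, mk ⟨g, hg⟩ * w * (mk ⟨g, hg⟩)⁻¹ ∈ S.comap e.toMonoidHom := by
        intro w hw
        rw [← hzu] at hw
        obtain ⟨i, rfl⟩ := Subgroup.mem_zpowers_iff.1 hw
        rw [← conj_zpow]
        refine zpow_mem ?_ i
        show e _ ∈ S
        rwa [map_mul, map_mul, map_inv]
      have hYS : Y ⊔ cj g Y ≤ ((S.comap e.toMonoidHom).comap mk).map L.subtype := by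
        refine sup_le (fun y hy => ⟨⟨y, D.yl hy⟩, hWS ⟨_, hy, rfl⟩, rfl⟩) ?_
        rintro _ ⟨y, hy, rfl⟩
        refine ⟨⟨g, hg⟩ * ⟨y, D.yl hy⟩ * (⟨g, hg⟩ : ↥L)⁻¹, ?_, rfl⟩
        show mk _ ∈ S.comap e.toMonoidHom
        rw [map_mul, map_mul, map_inv]
        exact hgS' _ ⟨_, hy, rfl⟩
      rw [hgen] at hYS
      refine eq_top_iff.2 fun x _ => ?_
      obtain ⟨x', rfl⟩ := e.surjective x
      obtain ⟨l, rfl⟩ := QuotientGroup.mk'_surjective _ x'
      obtain ⟨l', hl', hle⟩ := hYS l.2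
      exact (Subtype.ext hle : l' = l) ▸ hl'
    · obtain ⟨eS⟩ := CfsgLib.Lie.Suz.exists_twEquiv hm hF
      let e' := e.trans eS.symm
      haveI : Finite (Cfsg.Sz F m) := Finite.of_equiv _ e'.toEquiv
      obtain ⟨hc, he⟩ := hmapcard e'
      exact hfinish e' (suzuki_uniqueMin hm hF (hYp.map _) he (hc.trans hq.symm))
  · subst hp2
    haveI : Finite (DihedralGroup r) := Finite.of_equiv _ e.toEquiv
    haveI := Fact.mk hr
    obtain ⟨hc, he⟩ := hmapcard e
    have hW2 : Nat.card W₀ = 2 := by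
      obtain ⟨k, hk⟩ := IsPGroup.iff_card.1 (hYp.map mk)
      have hd : Nat.card W₀ ∣ 2 * r := by
        rw [← DihedralGroup.nat_card, ← Nat.card_congr e.toEquiv]
        exact Subgroup.card_subgroup_dvd_card _
      rw [hW₀] at hd ⊢
      rw [hk] at hd ⊢
      rcases k with _ | _ | k
      · exact absurd (Subgroup.eq_bot_of_card_eq _ hk) hW₀ne
      · rfl
      · exfalso
        have h4 : 2 * 2 ∣ 2 * r := (Dvd.intro_left _ (by ring : 2 ^ k * (2 * 2) = 2 ^ (k + 1 + 1))).trans hd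
        exact hr2 ((Nat.prime_dvd_prime_iff_eq Nat.prime_two hr).1 (Nat.dvd_of_mul_dvd_mul_left two_pos h4)).symm
    have hc2 : Nat.card ((Y.subgroupOf L).map (e.toMonoidHom.comp mk)) = 2 := by
      rw [hc, ← hcard₀, hW2]
    refine hfinish e (uniqueMin_of_card_two hc2 he fun P => ?_)
    rw [hc2]
    refine (Nat.card_le_card_of_injective (α := {x : DihedralGroup r // x ∈ P ∧ x ^ 2 = 1}) (fun x => (⟨x.1, x.2.1⟩ : (P : Subgroup (DihedralGroup r))))
      fun a b h => Subtype.ext (congrArg (fun t : (P : Subgroup (DihedralGroup r)) => (t : DihedralGroup r)) h)).trans ?_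
    rw [show Nat.card (P : Subgroup (DihedralGroup r)) =
      2 ^ Nat.factorization (Nat.card (DihedralGroup r)) 2 from P.card_eq_multiplicity, DihedralGroup.nat_card,
      Nat.factorization_mul two_ne_zero hr.ne_zero, Finsupp.add_apply, Nat.Prime.factorization_self Nat.prime_two,
      Nat.factorization_eq_zero_of_not_dvd (fun h => hr2 ((Nat.prime_dvd_prime_iff_eq Nat.prime_two hr).1 h).symm)]
    rfl

end CfsgLib.Fusion.FrakL
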