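import Cfsg.Agent.Lib.Fusion.FrakL.FixedFree

/-!
# The unique minimal normal subgroup of `N_L(Y)/O_p(L)`
-/

set_option autoImplicit false
set_option linter.unusedSectionVars false

open scoped MatrixGroups Pointwise

namespace CfsgLib.Fusion.FrakL

/-- `W` is the only nontrivial elementary abelian normal subgroup of its normaliser. -/
def UniqueMin (p : ℕ) {X : Type*} [Group X] (W : Subgroup X) : Prop :=
  ∀ V : Subgroup X, V ≤ Subgroup.normalizer (W : Set X) →
    Subgroup.normalizer (W : Set X) ≤ Subgroup.normalizer (V : Set X) →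
    (∀ v ∈ V, v ^ p = 1) → V ≠ ⊥ → V = W

section

variable {X : Type*} [Group X] [Finite X] {p : ℕ} [hp : Fact p.Prime]

/-- Normal subgroups of exponent `p` of the normaliser are inside `W`. -/
theorem le_of_expo {W : Subgroup X} (hW : IsPGroup p W) (hexp : ∀ w ∈ W, w ^ p = 1)
    (hom : ∀ P : Sylow p X, Nat.card {x : X // x ∈ P ∧ x ^ p = 1} ≤ Nat.card W)
    {V : Subgroup X} (hV : V ≤ Subgroup.normalizer (W : Set X)) (hVe : ∀ v ∈ V, v ^ p = 1) : V ≤ W := by
  have hVp : IsPGroup p V := fun v => ⟨1, by rw [pow_one]; exact Subtype.ext (hVe v v.2)⟩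
  obtain ⟨Q, hQ⟩ := (hVp.to_sup_of_normal_right' hW hV).exists_le_sylow
  let f : W → {x : X // x ∈ Q ∧ x ^ p = 1} := fun d => ⟨d, hQ (Subgroup.mem_sup_right d.2), hexp d d.2⟩
  have hf : Function.Injective f := fun d e h => Subtype.ext (congrArg (fun t => t.1) h)
  have hb := Function.Injective.bijective_of_nat_card_le hf (hom Q)
  intro v hv
  obtain ⟨d, hd⟩ := hb.2 ⟨v, hQ (Subgroup.mem_sup_left hv), hVe v hv⟩
  exact (congrArg (fun t => t.1) hd : (d : X) = v) ▸ d.2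

theorem uniqueMin_of_card_two {W : Subgroup X} (hcard : Nat.card W = 2) (hexp : ∀ w ∈ W, w ^ 2 = 1)
    (hom : ∀ P : Sylow 2 X, Nat.card {x : X // x ∈ P ∧ x ^ 2 = 1} ≤ Nat.card W) : UniqueMin 2 W := by
  haveI : Fact (Nat.Prime 2) := ⟨Nat.prime_two⟩
  intro V hV _ hVe hV1
  have hle := le_of_expo (IsPGroup.of_card (n := 1) (by rw [hcard, pow_one])) hexp hom hV hVe
  refine Subgroup.eq_of_le_of_card_ge hle ?_
  rw [hcard]
  exact Finite.one_lt_card_iff_nontrivial.2 ((Subgroup.nontrivial_iff_ne_bot V).2 hV1)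

variable {F : Type*} [Field F] [Fintype F] [CharP F p]

local notation "SL" => Matrix.SpecialLinearGroup (Fin 2) F

/-- A diagonal element. -/
def hT (a : Fˣ) : SL := ⟨!![(a : F), 0; 0, ((a⁻¹ : Fˣ) : F)], by simp [Matrix.det_fin_two]⟩

theorem hT_conj (a : Fˣ) (b : F) : hT a * xU b * (hT a)⁻¹ = xU ((a : F) ^ 2 * b) := by
  apply Subtype.ext
  rw [Matrix.SpecialLinearGroup.coe_mul, Matrix.SpecialLinearGroup.coe_mul, Matrix.SpecialLinearGroup.coe_inv]
  ext i j
  fin_cases i <;> fin_cases j <;>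
    simp [hT, xU, Matrix.mul_apply, Fin.sum_univ_two, Matrix.adjugate_fin_two] <;> ring

theorem sl_uniqueMin {W : Subgroup SL} (hW : IsPGroup p W) (hexp : ∀ w ∈ W, w ^ p = 1)
    (hcard : Nat.card W = Fintype.card F) : UniqueMin p W := by
  obtain ⟨P₀, hP₀⟩ := exists_sylow_upper (p := p) (F := F)
  intro V hV hVn hVe hV1
  have hom : ∀ P : Sylow p SL, Nat.card {x : SL // x ∈ P ∧ x ^ p = 1} ≤ Nat.card W :=
    card_expo_of_base P₀ (by
      rw [hcard, ← card_upper (F := F)]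
      refine Nat.card_le_card_of_injective (fun x => (⟨x.1, hP₀ ▸ x.2.1⟩ : (upper : Subgroup SL))) ?_
      intro a b h
      exact Subtype.ext (congrArg (fun t : (upper : Subgroup SL) => (t : SL)) h))
  have hVW := le_of_expo hW hexp hom hV hVe
  refine le_antisymm hVW ?_
  -- conjugate to the upper unitriangular group
  obtain ⟨Q, hQ⟩ := hW.exists_le_sylow
  obtain ⟨g, hg⟩ := MulAction.exists_smul_eq SL P₀ Q
  have hQW : W = (Q : Subgroup SL) := Subgroup.eq_of_le_of_card_ge hQ (by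
    rw [hcard, ← card_upper (F := F), ← hP₀, ← hg, Sylow.coe_subgroup_smul]
    exact le_of_eq (Nat.card_congr (Subgroup.equivSMul (MulAut.conj g) (P₀ : Subgroup SL)).toEquiv).symm)
  have hWg : ∀ x, x ∈ W ↔ g⁻¹ * x * g ∈ (upper : Subgroup SL) := by
    intro x
    rw [hQW, ← hg, Sylow.coe_subgroup_smul, hP₀]
    constructor
    · rintro ⟨y, hy, rfl⟩
      show g⁻¹ * (g * y * g⁻¹) * g ∈ _
      rwa [show g⁻¹ * (g * y * g⁻¹) * g = y by group]
    · intro h
      exact ⟨_, h, show g * (g⁻¹ * x * g) * g⁻¹ = x by group⟩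
  have hxu : ∀ b : F, g * xU b * g⁻¹ ∈ W := fun b => by
    rw [hWg, show g⁻¹ * (g * xU b * g⁻¹) * g = xU b by group]
    show _ ∧ _ ∧ _
    simp [xU]
  let S : AddSubgroup F :=
    { carrier := {b | g * xU b * g⁻¹ ∈ V}
      zero_mem' := by show _ ∈ V; rw [xU_zero, mul_one, mul_inv_cancel]; exact one_mem V
      add_mem' := fun {a b} ha hb => by
        show _ ∈ V
        rw [← xU_mul, ← conj_mul]
        exact mul_mem ha hb
      neg_mem' := fun {a} ha => by
        show _ ∈ V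
        rw [show xU (-a) = (xU a)⁻¹ by
          rw [eq_comm, inv_eq_iff_mul_eq_one, xU_mul, add_neg_cancel, xU_zero], ← conj_inv]
        exact inv_mem ha }
  have hsq : ∀ (a b : F), b ∈ S → a ^ 2 * b ∈ S := by
    intro a b hb
    by_cases ha : a = 0
    · rw [ha, zero_pow two_ne_zero, zero_mul]; exact zero_mem S
    have hN : g * hT (Units.mk0 a ha) * g⁻¹ ∈ Subgroup.normalizer (W : Set SL) := by
      have key : ∀ (c : Fˣ), ∀ x ∈ W, g * hT c * g⁻¹ * x * (g * hT c * g⁻¹)⁻¹ ∈ W := by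
        intro c x hx
        obtain ⟨h0, h1, h2⟩ := (hWg x).1 hx
        have he : g⁻¹ * x * g = xU ((g⁻¹ * x * g).1 0 1) := by
          apply Subtype.ext
          ext i j
          fin_cases i <;> fin_cases j
          exacts [h1, rfl, h0, h2]
        rw [show g * hT c * g⁻¹ * x * (g * hT c * g⁻¹)⁻¹ = g * (hT c * (g⁻¹ * x * g) * (hT c)⁻¹) * g⁻¹ by group,
          he, hT_conj]
        exact hxu _
      rw [Subgroup.mem_normalizer_iff]
      intro x
      refine ⟨key _ x, fun hx => ?_⟩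
      have h2 := key (Units.mk0 a ha)⁻¹ _ hx
      have hinv : hT (Units.mk0 a ha)⁻¹ = (hT (Units.mk0 a ha))⁻¹ := by
        apply Subtype.ext
        rw [Matrix.SpecialLinearGroup.coe_inv]
        ext i j
        fin_cases i <;> fin_cases j <;> simp [hT, Matrix.adjugate_fin_two]
      rw [hinv] at h2
      rwa [show g * (hT (Units.mk0 a ha))⁻¹ * g⁻¹ *
        (g * hT (Units.mk0 a ha) * g⁻¹ * x * (g * hT (Units.mk0 a ha) * g⁻¹)⁻¹) *
          (g * (hT (Units.mk0 a ha))⁻¹ * g⁻¹)⁻¹ = x by group] at h2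
    have h3 := (Subgroup.mem_normalizer_iff.1 (hVn hN) _).1 hb
    rw [show g * hT (Units.mk0 a ha) * g⁻¹ * (g * xU b * g⁻¹) * (g * hT (Units.mk0 a ha) * g⁻¹)⁻¹ =
      g * (hT (Units.mk0 a ha) * xU b * (hT (Units.mk0 a ha))⁻¹) * g⁻¹ by group, hT_conj, Units.val_mk0] at h3
    exact h3
  have hall : ∀ b : F, b ∈ S := by
    obtain ⟨v, hv⟩ := Subgroup.ne_bot_iff_exists_ne_one.1 hV1
    obtain ⟨h0, h1, h2⟩ := (hWg v).1 (hVW v.2)
    have he : g⁻¹ * (v : SL) * g = xU ((g⁻¹ * (v : SL) * g).1 0 1) := by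
      apply Subtype.ext
      ext i j
      fin_cases i <;> fin_cases j
      exacts [h1, rfl, h0, h2]
    set b₀ := (g⁻¹ * (v : SL) * g).1 0 1
    have hb₀ : b₀ ∈ S := by
      show _ ∈ V
      rw [← he, show g * (g⁻¹ * (v : SL) * g) * g⁻¹ = (v : SL) by group]
      exact v.2
    have hb0 : b₀ ≠ 0 := fun e => hv (Subtype.ext (by
      rw [show (v : SL) = g * (g⁻¹ * (v : SL) * g) * g⁻¹ by group, he, e, xU_zero, mul_one, mul_inv_cancel]
      rfl))
    intro b
    by_cases h2F : (2 : F) = 0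
    · have hchar : ringChar F = 2 := by
        haveI := Fact.mk Nat.prime_two
        have h2d : ringChar F ∣ 2 := (ringChar.spec F 2).1 (by exact_mod_cast h2F)
        rcases (Nat.dvd_prime Nat.prime_two).1 h2d with e | e
        · exact absurd e CharP.ringChar_ne_one
        · exact e
      obtain ⟨c, hc⟩ := FiniteField.isSquare_of_char_two hchar (b / b₀)
      have h3 := hsq c b₀ hb₀
      rwa [sq, ← hc, div_mul_cancel₀ b hb0] at h3
    · have h2b : ∀ c : F, (2 : F) * c * b₀ ∈ S := fun c => by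
        have h3 := sub_mem (sub_mem (hsq (c + 1) b₀ hb₀) (hsq c b₀ hb₀)) (hsq 1 b₀ hb₀)
        rwa [show (c + 1) ^ 2 * b₀ - c ^ 2 * b₀ - 1 ^ 2 * b₀ = 2 * c * b₀ by ring] at h3
      have h3 := h2b (b / b₀ / 2)
      rwa [mul_div_cancel₀ (b / b₀) h2F, div_mul_cancel₀ b hb0] at h3
  intro w hw
  obtain ⟨h0, h1, h2⟩ := (hWg w).1 hw
  have he : g⁻¹ * w * g = xU ((g⁻¹ * w * g).1 0 1) := by
    apply Subtype.ext
    ext i j
    fin_cases i <;> fin_cases j
    exacts [h1, rfl, h0, h2]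
  have h3 : g * xU ((g⁻¹ * w * g).1 0 1) * g⁻¹ ∈ V := hall _
  rwa [← he, show g * (g⁻¹ * w * g) * g⁻¹ = w by group] at h3

end

section Suzuki

open CfsgLib.Lie.Suz

variable {F : Type*} [Field F] [Fintype F] {m : ℕ} (hm : 1 ≤ m)
  (hF : Fintype.card F = 2 ^ (2 * m + 1))
include hm hF

theorem suzuki_uniqueMin {W : Subgroup (Cfsg.Sz F m)} (hW : IsPGroup 2 W) (hexp : ∀ w ∈ W, w ^ 2 = 1)
    (hcard : Nat.card W = Fintype.card F) : UniqueMin 2 W := by
  haveI : Fact (Nat.Prime 2) := ⟨Nat.prime_two⟩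
  obtain ⟨P₀, hP₀⟩ := exists_sylow_U hm hF
  have hom := card_expo_of_base P₀ ((card_invol_le hm hF P₀ hP₀).trans hcard.ge)
  intro V hV hVn hVe hV1
  have hVW := le_of_expo hW hexp hom hV hVe
  refine le_antisymm hVW ?_
  obtain ⟨Q, hQ⟩ := hW.exists_le_sylow
  obtain ⟨g, hg⟩ := MulAction.exists_smul_eq (Cfsg.Sz F m) P₀ Q
  have hz : ∀ x, x ∈ W ↔ ∃ b, x = g * TS hF 0 b * g⁻¹ := by
    have hle : ∀ x ∈ W, ∃ b, x = g * TS hF 0 b * g⁻¹ := by
      intro x hx
      have h1 := hQ hx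
      rw [← hg, Sylow.coe_subgroup_smul, hP₀] at h1
      obtain ⟨y, hy, hyx⟩ := h1
      have hxy : x = g * y * g⁻¹ := hyx.symm
      obtain ⟨a, b, hab⟩ := hy
      have h2 := hexp x hx
      rw [hxy, conj_pow, mul_inv_eq_one, mul_eq_left] at h2
      have ha : a = 0 := by
        have h3 := congrArg Subtype.val h2
        rw [Subgroup.coe_pow, sq, hab, T_sq (isSuzField hF)] at h3
        have h4 := congrArg (fun g : SL(4, F) => g • Cfsg.suzukiPointZero F) h3
        simp only [T_zero_pt (isSuzField hF), Subgroup.coe_one, one_smul] at h4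
        rcases mul_eq_zero.1 (pt_inj (h4.trans pt_zero_zero.symm)).2 with h | h
        · exact th_eq_zero (isSuzField hF) h
        · exact h
      subst ha
      exact ⟨b, by rw [hxy, show y = TS hF 0 b from Subtype.ext hab]⟩
    let f : W → F := fun x => (hle x x.2).choose
    have hf : Function.Injective f := fun x y h => Subtype.ext (by
      rw [(hle x x.2).choose_spec, (hle y y.2).choose_spec]
      exact congrArg (fun b => g * TS hF 0 b * g⁻¹) h)
    have hb := Function.Injective.bijective_of_nat_card_le hf (by rw [Nat.card_eq_fintype_card, hcard])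
    refine fun x => ⟨hle x, ?_⟩
    rintro ⟨b, rfl⟩
    obtain ⟨w, hw⟩ := hb.2 b
    have := (hle w w.2).choose_spec
    change f w = b at hw
    simp only [f] at hw
    rw [hw] at this
    exact this ▸ w.2
  obtain ⟨v, hv⟩ := Subgroup.ne_bot_iff_exists_ne_one.1 hV1
  obtain ⟨b₀, hb₀⟩ := (hz v).1 (hVW v.2)
  have hb0 : b₀ ≠ 0 := fun e => hv (Subtype.ext (by
    rw [hb₀, e, show (TS hF 0 0 : Cfsg.Sz F m) = 1 from Subtype.ext T_zero, mul_one, mul_inv_cancel]
    rfl))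
  intro w hw
  obtain ⟨b, rfl⟩ := (hz w).1 hw
  by_cases hb : b = 0
  · rw [hb, show (TS hF 0 0 : Cfsg.Sz F m) = 1 from Subtype.ext T_zero, mul_one, mul_inv_cancel]
    exact one_mem V
  obtain ⟨k, hk⟩ := exists_kth_eq hF (m := m) (c := b / b₀) (div_ne_zero hb hb0)
  have hconj : ∀ k : Fˣ, ∀ c : F, g * HS hF k * g⁻¹ * (g * TS hF 0 c * g⁻¹) * (g * HS hF k * g⁻¹)⁻¹ =
      g * TS hF 0 (th m (k : F) * k * c) * g⁻¹ := fun k c => by
    rw [show g * HS hF k * g⁻¹ * (g * TS hF 0 c * g⁻¹) * (g * HS hF k * g⁻¹)⁻¹ =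
      g * (HS hF k * TS hF 0 c * (HS hF k)⁻¹) * g⁻¹ by group, H_conj_T hF, mul_zero]
  have hN : g * HS hF k * g⁻¹ ∈ Subgroup.normalizer (W : Set (Cfsg.Sz F m)) := by
    rw [Subgroup.mem_normalizer_iff]
    intro x
    constructor
    · intro hx
      obtain ⟨c, rfl⟩ := (hz x).1 hx
      exact (hz _).2 ⟨_, hconj k c⟩
    · intro hx
      obtain ⟨c, hc⟩ := (hz _).1 hx
      refine (hz _).2 ⟨th m ((k⁻¹ : Fˣ) : F) * (k⁻¹ : Fˣ) * c, ?_⟩
      rw [← hconj k⁻¹ c, ← hc, show (HS hF k⁻¹ : Cfsg.Sz F m) = (HS hF k)⁻¹ from Subtype.ext (H_inv k)]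
      group
  have h3 := (Subgroup.mem_normalizer_iff.1 (hVn hN) _).1 v.2
  rwa [hb₀, hconj, hk, div_mul_cancel₀ b hb0] at h3

end Suzuki

/-- `Sz(2)` is not generated by two conjugate involutions. -/
theorem suzuki_two_not_two_gen {F : Type*} [Field F] [Fintype F] (hF : Fintype.card F = 2 ^ (2 * 0 + 1))
    (u g : ↥(Cfsg.Lie.Sz F (2 ^ (0 + 1)))) (hu : u * u = 1)
    (hgen : ∀ S : Subgroup ↥(Cfsg.Lie.Sz F (2 ^ (0 + 1))), u ∈ S → g * u * g⁻¹ ∈ S → S = ⊤) : False := by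
  open CfsgLib.Lie.Suz in
  have hS := isSuzField (m := 0) hF
  have hT : ∀ a b : F, Matrix.SpecialLinearGroup.toGL (T 0 a b) ∈ Cfsg.Lie.Sz F (2 ^ (0 + 1)) := fun a b =>
    Subgroup.subset_closure (T_tw hS a b)
  set t : ↥(Cfsg.Lie.Sz F (2 ^ (0 + 1))) := ⟨_, hT 1 0⟩
  set w : ↥(Cfsg.Lie.Sz F (2 ^ (0 + 1))) := ⟨_, Subgroup.subset_closure (W_tw hS)⟩
  set v := g * u * g⁻¹
  set c := u * v
  have hu' : u⁻¹ = u := inv_eq_of_mul_eq_one_right hu
  have hv2 : v * v = 1 := by rw [conj_mul, hu, mul_one, mul_inv_cancel]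
  have hv' : v⁻¹ = v := inv_eq_of_mul_eq_one_right hv2
  have hinv : u * c * u⁻¹ = c⁻¹ := by
    rw [_root_.mul_inv_rev, hu', hv']
    simp only [c, ← mul_assoc, hu, one_mul]
  let D : Subgroup ↥(Cfsg.Lie.Sz F (2 ^ (0 + 1))) :=
    { carrier := {x | (∃ i : ℤ, x = c ^ i) ∨ ∃ i : ℤ, x = u * c ^ i}
      one_mem' := Or.inl ⟨0, (zpow_zero c).symm⟩
      mul_mem' := by
        have hcu : ∀ i : ℤ, c ^ i * u = u * c ^ (-i) := fun i => by
          have h2 := conj_zpow (a := u) (b := c) (i := -i)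
          rw [hinv, inv_zpow, zpow_neg, inv_inv] at h2
          rw [h2, zpow_neg, mul_assoc, inv_mul_cancel, mul_one]
        rintro _ _ (⟨i, rfl⟩ | ⟨i, rfl⟩) (⟨j, rfl⟩ | ⟨j, rfl⟩)
        · exact Or.inl ⟨i + j, (zpow_add c i j).symm⟩
        · exact Or.inr ⟨-i + j, by rw [← mul_assoc, hcu, mul_assoc, ← zpow_add]⟩
        · exact Or.inr ⟨i + j, by rw [mul_assoc, zpow_add]⟩
        · exact Or.inl ⟨-i + j, by
            rw [mul_assoc, ← mul_assoc (c ^ i), hcu, ← mul_assoc, ← mul_assoc, hu, one_mul, ← zpow_add]⟩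
      inv_mem' := by
        rintro _ (⟨i, rfl⟩ | ⟨i, rfl⟩)
        · exact Or.inl ⟨-i, (zpow_neg c i).symm⟩
        · refine Or.inr ⟨i, ?_⟩
          have h2 := conj_zpow (a := u) (b := c) (i := i)
          rw [hinv, inv_zpow] at h2
          rw [_root_.mul_inv_rev, h2, hu', mul_assoc, hu, mul_one] }
  have hD : D = ⊤ := hgen D (Or.inr ⟨0, by rw [zpow_zero, mul_one]⟩)
    (Or.inr ⟨1, by rw [zpow_one, ← mul_assoc, hu, one_mul]⟩)
  have hT2 : T 0 (1 : F) 0 * T 0 1 0 = T 0 0 1 := by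
    rw [CfsgLib.Lie.Suz.T_sq hS, CfsgLib.Lie.Suz.th_one hS, mul_one]
  have ht2 : (t * t : ↥(Cfsg.Lie.Sz F (2 ^ (0 + 1)))) ≠ 1 := by
    intro h
    have h1 := Matrix.SpecialLinearGroup.toGL_injective
      ((map_mul _ _ _).trans ((congrArg Subtype.val h).trans (map_one _).symm) :
        Matrix.SpecialLinearGroup.toGL (T 0 (1 : F) 0 * T 0 1 0) = Matrix.SpecialLinearGroup.toGL 1)
    rw [hT2] at h1
    have h2 := congrArg (fun g : SL(4, F) => g • Cfsg.suzukiPointZero F) h1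
    simp only [CfsgLib.Lie.Suz.T_zero_pt hS, one_smul] at h2
    exact one_ne_zero (CfsgLib.Lie.Suz.pt_inj (h2.trans CfsgLib.Lie.Suz.pt_zero_zero.symm)).2
  -- an element of order four is a rotation, so its square is central
  obtain ⟨i, hi⟩ : ∃ i : ℤ, t = c ^ i := by
    rcases (hD ▸ Subgroup.mem_top t : t ∈ D) with h | ⟨i, hi⟩
    · exact h
    · exfalso
      apply ht2
      have h2 := conj_zpow (a := u) (b := c) (i := i)
      rw [hinv, inv_zpow] at h2
      rw [hi, show u * c ^ i * (u * c ^ i) = u * c ^ i * u * c ^ i by group]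
      nth_rewrite 2 [← hu']
      rw [← h2, inv_mul_cancel]
  have hcu2 : u * (t * t) * u⁻¹ = t * t := by
    rw [hi, ← zpow_add, ← conj_zpow, hinv, inv_zpow]
    have h4 : t * t * (t * t) = 1 := by
      apply Subtype.ext
      show Matrix.SpecialLinearGroup.toGL _ * Matrix.SpecialLinearGroup.toGL _ *
        (Matrix.SpecialLinearGroup.toGL _ * Matrix.SpecialLinearGroup.toGL _) = _
      rw [← map_mul, ← map_mul, hT2, CfsgLib.Lie.Suz.T_sq hS, CfsgLib.Lie.Suz.th_zero hS, zero_mul,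
        CfsgLib.Lie.Suz.T_zero, map_one]
      rfl
    rw [hi, ← zpow_add, ← zpow_add] at h4
    rw [inv_eq_iff_mul_eq_one, ← zpow_add, h4]
  have htop : Subgroup.centralizer ({t * t} : Set ↥(Cfsg.Lie.Sz F (2 ^ (0 + 1)))) = ⊤ := by
    have hc : c ∈ Subgroup.centralizer ({t * t} : Set ↥(Cfsg.Lie.Sz F (2 ^ (0 + 1)))) := by
      rw [Subgroup.mem_centralizer_singleton_iff, hi, ← zpow_add]
      exact ((Commute.refl c).zpow_right _).eq
    have hu2 : u ∈ Subgroup.centralizer ({t * t} : Set ↥(Cfsg.Lie.Sz F (2 ^ (0 + 1)))) := by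
      rw [Subgroup.mem_centralizer_singleton_iff]
      nth_rewrite 2 [← hcu2]
      group
    refine hgen _ hu2 ?_
    have h3 := mul_mem hu2 hc
    rwa [← mul_assoc, hu, one_mul] at h3
  have hw : w * (t * t) = (t * t) * w :=
    Subgroup.mem_centralizer_singleton_iff.1 (htop ▸ Subgroup.mem_top w)
  have h5 : (W : SL(4, F)) * T 0 0 1 = T 0 0 1 * W := by
    apply Matrix.SpecialLinearGroup.toGL_injective
    rw [map_mul, map_mul, ← hT2, map_mul]
    exact congrArg Subtype.val hw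
  have h6 := congrArg (fun g : SL(4, F) => g • Cfsg.suzukiPointInfinity F) h5
  simp only [mul_smul, CfsgLib.Lie.Suz.T_inf, CfsgLib.Lie.Suz.W_inf, CfsgLib.Lie.Suz.T_zero_pt hS] at h6
  exact one_ne_zero (CfsgLib.Lie.Suz.pt_inj (CfsgLib.Lie.Suz.pt_zero_zero.trans h6)).2.symm

end CfsgLib.Fusion.FrakL
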